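import Cfsg.Agent.Lib.SpAmalgam.Model

/-!
An abstract group with a homomorphism to `Sp(2n, F)` that is injective on the groups generated by
pairs of members of the amalgam.
-/

set_option autoImplicit false

namespace CfsgLib.SpAmalgam

open Matrix CfsgLib.SympTransvection CfsgLib.SympGen

variable {F : Type*} [Field F] {n : ℕ}

local notation "Vec" => (Fin n ⊕ Fin n → F)
local notation "Sp" => Matrix.symplecticGroup (Fin n) F

/-- Adjacent indices. -/
def Adj (i i' : Fin n) : Prop := (i' : ℕ) = i + 1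

theorem Adj.ne {i i' : Fin n} (h : Adj i i') : i ≠ i' := fun e => by
  have := congrArg Fin.val e
  unfold Adj at h
  omega

/-- The data of the amalgam. -/
structure Amalg (F : Type*) [Field F] (n : ℕ) (G : Type*) [Group G] where
  /-- The projection. -/
  π : G →* Matrix.symplecticGroup (Fin n) F
  /-- The rank one members. -/
  Sg : Fin n → Subgroup G
  /-- The abelian members. -/
  Mg : Fin n → Fin n → Subgroup G
  surjS : ∀ j g, InS j g → ∃ x ∈ Sg j, π x = g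
  mapS : ∀ j x, x ∈ Sg j → InS j (π x)
  surjM : ∀ i i', Adj i i' → ∀ g, InM i i' g → ∃ x ∈ Mg i i', π x = g
  mapM : ∀ i i', Adj i i' → ∀ x, x ∈ Mg i i' → InM i i' (π x)
  injSS : ∀ j l, Set.InjOn π ↑(Sg j ⊔ Sg l)
  injMS : ∀ i i' j, Adj i i' → Set.InjOn π ↑(Mg i i' ⊔ Sg j)
  injMM : ∀ i i' l l', Adj i i' → Adj l l' → Set.InjOn π ↑(Mg i i' ⊔ Mg l l')

variable {G : Type*} [Group G] (A : Amalg F n G)

theorem commute_of_inj {π : G →* Sp} {K : Subgroup G} (hK : Set.InjOn π ↑K) {x y : G} (hx : x ∈ K) (hy : y ∈ K)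
    (h : Commute (π x) (π y)) : Commute x y :=
  hK (mul_mem hx hy) (mul_mem hy hx) (by rw [map_mul, map_mul, h.eq])

theorem conj_eq_of_inj {π : G →* Sp} {K : Subgroup G} (hK : Set.InjOn π ↑K) {x y z : G} (hx : x ∈ K) (hy : y ∈ K)
    (hz : z ∈ K) (h : π x * π y * (π x)⁻¹ = π z) : x * y * x⁻¹ = z :=
  hK (mul_mem (mul_mem hx hy) (inv_mem hx)) hz (by rw [map_mul, map_mul, map_inv, h])

theorem commute_tv {g : Sp} {v : Vec} (h : ap g v = v) (c : F) : Commute g (tv v c) :=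
  commute_iff_eq _ _ |>.2 (mul_inv_eq_iff_eq_mul.1 (by rw [conj_tv, show g.1 *ᵥ v = v from h]))

theorem commute_hv {g : Sp} {e v : Vec} (h : ap g e = e) (h' : ap g v = v) (c : F) : Commute g (hv e v c) :=
  commute_iff_eq _ _ |>.2 (mul_inv_eq_iff_eq_mul.1 (by rw [hv_conj, h, h']))

theorem inS_commute_fix {j : Fin n} {g : Sp} (hg : InS j g) {v : Vec} (he : B v (ee j) = 0) (hf : B v (ff j) = 0) :
    ap g v = v := by
  funext s
  rcases s with i | i
  · rw [coord_inl (ap g v) i, coord_inl v i]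
    by_cases hi : i = j
    · subst hi
      conv_lhs => rw [← show ap g (ap g⁻¹ (ff i)) = ff i by rw [← ap_mul, mul_inv_cancel, ap_one]]
      rw [B_map, inS_plane hg.inv (Or.inr rfl), B_add_right, B_smul_right, B_smul_right, he, hf]
      simp
    · conv_lhs => rw [← (hg i hi).2, B_map]
  · rw [coord_inr (ap g v) i, coord_inr v i]
    by_cases hi : i = j
    · subst hi
      conv_lhs => rw [← show ap g (ap g⁻¹ (ee i)) = ee i by rw [← ap_mul, mul_inv_cancel, ap_one]]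
      rw [B_map, inS_plane hg.inv (Or.inl rfl), B_add_right, B_smul_right, B_smul_right, he, hf]
      simp
    · conv_lhs => rw [← (hg i hi).1, B_map]

theorem inM_fix {i i' : Fin n} (hii : i ≠ i') {g : Sp} (hg : InM i i' g) {v : Vec} (h : B v (ee i) = 0)
    (h' : B v (ee i') = 0) : ap g v = v := by
  obtain ⟨a, c, d, rfl⟩ := inM_eq hii hg
  rw [ap_mul, show ap (tv (ee i') d) v = _ from tv_apply _ _ _, h',
    hv_apply (by rw [B_smul_right, B_ee, mul_zero]), mul_zero, zero_smul, add_zero, B_smul_right, h, h']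
  simp

namespace Amalg

theorem injS (j : Fin n) : Set.InjOn A.π ↑(A.Sg j) :=
  (A.injSS j j).mono (SetLike.coe_subset_coe.2 le_sup_left)

/-- `z_j(c)`. -/
noncomputable def Z (j : Fin n) (c : F) : G := (A.surjS j _ (inS_tv_e j c)).choose

theorem Z_mem (j : Fin n) (c : F) : A.Z j c ∈ A.Sg j := (A.surjS j _ (inS_tv_e j c)).choose_spec.1

theorem π_Z (j : Fin n) (c : F) : A.π (A.Z j c) = tv (ee j) c := (A.surjS j _ (inS_tv_e j c)).choose_spec.2

/-- `z_j'(c)`. -/
noncomputable def Zf (j : Fin n) (c : F) : G := (A.surjS j _ (inS_tv_f j c)).choose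

theorem Zf_mem (j : Fin n) (c : F) : A.Zf j c ∈ A.Sg j := (A.surjS j _ (inS_tv_f j c)).choose_spec.1

theorem π_Zf (j : Fin n) (c : F) : A.π (A.Zf j c) = tv (ff j) c := (A.surjS j _ (inS_tv_f j c)).choose_spec.2

theorem Z_eq {j : Fin n} {x : G} (hx : x ∈ A.Sg j) {c : F} (h : A.π x = tv (ee j) c) : x = A.Z j c :=
  A.injS j hx (A.Z_mem j c) (h.trans (A.π_Z j c).symm)

theorem Z_add (j : Fin n) (c d : F) : A.Z j c * A.Z j d = A.Z j (c + d) :=
  A.Z_eq (mul_mem (A.Z_mem j c) (A.Z_mem j d)) (by rw [map_mul, A.π_Z, A.π_Z, tv_add])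

theorem Z_zero (j : Fin n) : A.Z j 0 = 1 :=
  (A.Z_eq (one_mem _) (by rw [map_one, ← hv_zero_eq_tv, hv_zero_zero])).symm

theorem Z_inv (j : Fin n) (c : F) : (A.Z j c)⁻¹ = A.Z j (-c) :=
  inv_eq_of_mul_eq_one_right (by rw [A.Z_add, add_neg_cancel, A.Z_zero])

theorem Z_mem_M {i i' l : Fin n} (h : Adj i i') (hl : l = i ∨ l = i') (c : F) : A.Z l c ∈ A.Mg i i' := by
  obtain ⟨x, hx, e⟩ := A.surjM i i' h _ (inM_tv hl c)
  rwa [← A.injMS i i' l h (Subgroup.mem_sup_left hx) (Subgroup.mem_sup_right (A.Z_mem l c))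
    (e.trans (A.π_Z l c).symm)]

/-- `P(a)`, the short root element of `e_i + e_{i'}`. -/
noncomputable def P (i i' : Fin n) (a : F) : G :=
  open Classical in if h : Adj i i' then (A.surjM i i' h _ (inM_hv a 0)).choose else 1

theorem P_mem {i i' : Fin n} (h : Adj i i') (a : F) : A.P i i' a ∈ A.Mg i i' := by
  rw [P, dif_pos h]; exact (A.surjM i i' h _ (inM_hv a 0)).choose_spec.1

theorem π_P {i i' : Fin n} (h : Adj i i') (a : F) : A.π (A.P i i' a) = hv (ee i) (a • ee i') 0 := by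
  rw [P, dif_pos h]; exact (A.surjM i i' h _ (inM_hv a 0)).choose_spec.2

theorem P_eq {i i' j : Fin n} (h : Adj i i') {x : G} (hx : x ∈ A.Mg i i' ⊔ A.Sg j) {a : F}
    (e : A.π x = hv (ee i) (a • ee i') 0) : x = A.P i i' a :=
  A.injMS i i' j h hx (Subgroup.mem_sup_left (A.P_mem h a)) (e.trans (A.π_P h a).symm)

theorem M_cases {i i' : Fin n} (h : Adj i i') {x : G} (hx : x ∈ A.Mg i i') :
    ∃ a c d, x = A.Z i c * A.P i i' a * A.Z i' d := by
  obtain ⟨a, c, d, e⟩ := inM_eq h.ne (A.mapM i i' h x hx)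
  refine ⟨a, c, d, (A.injMM i i' i i' h h) (Subgroup.mem_sup_left hx) (Subgroup.mem_sup_left
    (mul_mem (mul_mem (A.Z_mem_M h (Or.inl rfl) c) (A.P_mem h a)) (A.Z_mem_M h (Or.inr rfl) d))) ?_⟩
  rw [e, map_mul, map_mul, A.π_Z, A.π_Z, A.π_P h, ← hv_zero_eq_tv (ee i) c,
    hv_mul (B_zero_right _) (by rw [B_smul_right, B_ee, mul_zero]), zero_add, add_zero, B_zero_right, add_zero]

theorem S_gen {j : Fin n} {x : G} (hx : x ∈ A.Sg j) :
    x ∈ Subgroup.closure (Set.range (A.Z j) ∪ Set.range (A.Zf j)) := by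
  set K := Subgroup.closure (Set.range (A.Z j) ∪ Set.range (A.Zf j))
  have hK : K ≤ A.Sg j := (Subgroup.closure_le _).2 (by
    rintro _ (⟨c, rfl⟩ | ⟨c, rfl⟩)
    exacts [A.Z_mem j c, A.Zf_mem j c])
  have h1 : Subgroup.closure (Set.range (tv (ee (F := F) j)) ∪ Set.range (tv (ff j))) ≤ K.map A.π := by
    rw [Subgroup.closure_le]
    rintro _ (⟨c, rfl⟩ | ⟨c, rfl⟩)
    · exact ⟨_, Subgroup.subset_closure (Or.inl ⟨c, rfl⟩), A.π_Z j c⟩
    · exact ⟨_, Subgroup.subset_closure (Or.inr ⟨c, rfl⟩), A.π_Zf j c⟩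
  obtain ⟨y, hy, e⟩ := h1 (inS_mem_closure (A.mapS j x hx))
  rwa [← A.injS j (hK hy) hx e]

theorem commute_SS {j l : Fin n} (hjl : j ≠ l) {x y : G} (hx : x ∈ A.Sg j) (hy : y ∈ A.Sg l) : Commute x y := by
  refine commute_of_inj (A.injSS j l) (Subgroup.mem_sup_left hx) (Subgroup.mem_sup_right hy) ?_
  have hj := A.mapS j x hx
  have hl := A.mapS l y hy
  refine (commute_iff_eq _ _).2 (ext_bas fun i => ?_)
  by_cases h : i = j
  · subst h
    constructor
    · rw [ap_mul, ap_mul, (hl i hjl).1, inS_plane hj (Or.inl rfl), ap_add, ap_smul, ap_smul,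
        (hl i hjl).1, (hl i hjl).2]
    · rw [ap_mul, ap_mul, (hl i hjl).2, inS_plane hj (Or.inr rfl), ap_add, ap_smul, ap_smul,
        (hl i hjl).1, (hl i hjl).2]
  · constructor
    · by_cases h2 : i = l
      · subst h2
        rw [ap_mul, ap_mul, (hj i h).1, inS_plane hl (Or.inl rfl), ap_add, ap_smul, ap_smul, (hj i h).1, (hj i h).2]
      · rw [ap_mul, ap_mul, (hl i h2).1, (hj i h).1, (hl i h2).1]
    · by_cases h2 : i = l
      · subst h2
        rw [ap_mul, ap_mul, (hj i h).2, inS_plane hl (Or.inr rfl), ap_add, ap_smul, ap_smul, (hj i h).1, (hj i h).2]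
      · rw [ap_mul, ap_mul, (hl i h2).2, (hj i h).2, (hl i h2).2]

theorem commute_S_Z {i j : Fin n} (h : i ≠ j) {x : G} (hx : x ∈ A.Sg i) (c : F) : Commute x (A.Z j c) :=
  A.commute_SS h hx (A.Z_mem j c)

theorem commute_S_P {i i' j : Fin n} (h : Adj i i') (h1 : j ≠ i) (h2 : j ≠ i') {x : G} (hx : x ∈ A.Sg j) (a : F) :
    Commute x (A.P i i' a) := by
  refine commute_of_inj (A.injMS i i' j h) (Subgroup.mem_sup_right hx) (Subgroup.mem_sup_left (A.P_mem h a)) ?_
  rw [A.π_P h]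
  exact commute_hv ((A.mapS j x hx) i h1.symm).1 (by rw [ap_smul, ((A.mapS j x hx) i' h2.symm).1]) 0

theorem commute_M_P {i i' l l' : Fin n} (h : Adj i i') (h' : Adj l l') {x : G} (hx : x ∈ A.Mg l l') (a : F) :
    Commute x (A.P i i' a) := by
  refine commute_of_inj (A.injMM i i' l l' h h') (Subgroup.mem_sup_right hx)
    (Subgroup.mem_sup_left (A.P_mem h a)) ?_
  rw [A.π_P h]
  exact commute_hv ((A.mapM l l' h' x hx).1 i) (by rw [ap_smul, (A.mapM l l' h' x hx).1 i']) 0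

/-- The subgroup on the indices `≥ k`. -/
def Gam (k : ℕ) : Subgroup G :=
  Subgroup.closure {x | (∃ j : Fin n, k ≤ j ∧ x ∈ A.Sg j) ∨ ∃ i i', Adj i i' ∧ k ≤ (i : ℕ) ∧ x ∈ A.Mg i i'}

theorem S_le {k : ℕ} {j : Fin n} (h : k ≤ j) : A.Sg j ≤ A.Gam k := fun _ hx =>
  Subgroup.subset_closure (Or.inl ⟨j, h, hx⟩)

theorem M_le {k : ℕ} {i i' : Fin n} (h : Adj i i') (hk : k ≤ (i : ℕ)) : A.Mg i i' ≤ A.Gam k := fun _ hx =>
  Subgroup.subset_closure (Or.inr ⟨i, i', h, hk, hx⟩)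

/-- Vectors supported on the indices `≥ k`. -/
def Vk (k : ℕ) (v : Vec) : Prop := ∀ j : Fin n, (j : ℕ) < k → B v (ee j) = 0 ∧ B v (ff j) = 0

theorem gam_fix {k : ℕ} {x : G} (hx : x ∈ A.Gam k) {j : Fin n} (hj : (j : ℕ) < k) :
    ap (A.π x) (ee j) = ee j ∧ ap (A.π x) (ff j) = ff j := by
  induction hx using Subgroup.closure_induction with
  | mem y hy =>
    rcases hy with ⟨l, hl, hy⟩ | ⟨i, i', h, hi, hy⟩
    · exact A.mapS l y hy j fun e => by omega
    · refine ⟨(A.mapM i i' h y hy).1 j, (A.mapM i i' h y hy).2 j (fun e => by omega) fun e => ?_⟩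
      unfold Adj at h; omega
  | one => constructor <;> rw [map_one, ap_one]
  | mul a b _ _ ha hb => rw [map_mul, ap_mul, ap_mul, hb.1, hb.2]; exact ha
  | inv a _ ha => rw [map_inv]; exact ⟨ap_inv_of _ ha.1, ap_inv_of _ ha.2⟩

theorem gam_vk {k : ℕ} {x : G} (hx : x ∈ A.Gam k) {v : Vec} (hv : Vk k v) : Vk k (ap (A.π x) v) := fun j hj => by
  constructor
  · conv_lhs => rw [← (A.gam_fix hx hj).1]
    rw [B_map]; exact (hv j hj).1
  · conv_lhs => rw [← (A.gam_fix hx hj).2]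
    rw [B_map]; exact (hv j hj).2

/-- The generators of the stabilizer of `e_k` in `Gam k`. -/
def St (k : Fin n) : Subgroup G :=
  Subgroup.closure ((A.Gam ((k : ℕ) + 1) : Set G) ∪ Set.range (A.Z k) ∪
    {x | ∃ g ∈ A.Gam ((k : ℕ) + 1), ∃ i' : Fin n, Adj k i' ∧ ∃ a, x = g * A.P k i' a * g⁻¹})

/-- What is proved by downward induction. -/
structure Good (k : ℕ) : Prop where
  inj : ∀ g ∈ A.Gam k, A.π g = 1 → g = 1
  pair : ∀ j : Fin n, (j : ℕ) = k → ∀ v w : Vec, Vk k v → Vk k w → B w v = 1 →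
    ∃ g ∈ A.Gam k, ap (A.π g) (ee j) = v ∧ ap (A.π g) (ff j) = w
  stab : ∀ j : Fin n, (j : ℕ) = k → ∀ g ∈ A.Gam k, ap (A.π g) (ee j) = ee j → g ∈ A.St j

theorem Good.injOn {A : Amalg F n G} {k : ℕ} (h : A.Good k) : Set.InjOn A.π ↑(A.Gam k) := fun x hx y hy e =>
  inv_mul_eq_one.1 (h.inj _ (mul_mem (inv_mem hx) hy) (by rw [map_mul, map_inv, e, inv_mul_cancel]))

theorem exists_dual {k : ℕ} {v : Vec} (hv : Vk k v) (h : v ≠ 0) : ∃ w, Vk k w ∧ B w v = 1 := by
  obtain ⟨s, hs⟩ := Function.ne_iff.1 h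
  rcases s with i | i
  · rw [coord_inl v i, B_swap] at hs
    refine ⟨(B (ff i) v)⁻¹ • ff i, fun j hj => ?_, by rw [B_smul_left, inv_mul_cancel₀ (by simpa using hs)]⟩
    have : i ≠ j := fun e => by subst e; rw [B_swap, (hv i hj).2] at hs; simp at hs
    rw [B_smul_left, B_smul_left, B_fe, if_neg this, B_ff]
    simp
  · rw [coord_inr v i, B_swap] at hs
    refine ⟨(B (ee i) v)⁻¹ • ee i, fun j hj => ?_, by rw [B_smul_left, inv_mul_cancel₀ (by simpa using hs)]⟩
    have : i ≠ j := fun e => by subst e; rw [B_swap, (hv i hj).1] at hs; simp at hs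
    rw [B_smul_left, B_smul_left, B_ef, if_neg this, B_ee]
    simp

theorem Good.trans {A : Amalg F n G} {k : ℕ} (h : A.Good k) (j : Fin n) (hj : (j : ℕ) = k) {v : Vec}
    (hv : Vk k v) (h0 : v ≠ 0) : ∃ g ∈ A.Gam k, ap (A.π g) (ee j) = v := by
  obtain ⟨w, hw, e⟩ := exists_dual hv h0
  obtain ⟨g, hg, h1, -⟩ := h.pair j hj v w hv hw e
  exact ⟨g, hg, h1⟩

theorem gam_top : A.Gam n = ⊥ := by
  rw [eq_bot_iff, Gam, Subgroup.closure_le]
  rintro x (⟨j, hj, -⟩ | ⟨i, i', -, hi, -⟩)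
  · omega
  · omega

theorem good_top : A.Good n where
  inj g hg _ := by simpa [A.gam_top] using hg
  pair j hj := absurd j.isLt (by omega)
  stab j hj := absurd j.isLt (by omega)

theorem vk_plane {k : ℕ} {j : Fin n} (hj : k = (j : ℕ)) (hlast : (j : ℕ) + 1 = n) {v : Vec} (hv : Vk k v) :
    v = (v (Sum.inl j)) • ee j + (v (Sum.inr j)) • ff j := by
  funext s
  rcases s with i | i <;> by_cases hi : i = j
  · subst hi; simp [ee, ff, bas]
  · rw [coord_inl v i, (hv i (by have := i.isLt; have : (i : ℕ) ≠ j := fun e => hi (Fin.ext e); omega)).2]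
    simp [ee, ff, bas, hi]
  · subst hi; simp [ee, ff, bas]
  · rw [coord_inr v i, (hv i (by have := i.isLt; have : (i : ℕ) ≠ j := fun e => hi (Fin.ext e); omega)).1]
    simp [ee, ff, bas, hi]

/-- The last index. -/
theorem good_last (k : Fin n) (hlast : (k : ℕ) + 1 = n) : A.Good (k : ℕ) := by
  have hle : A.Gam (k : ℕ) ≤ A.Sg k := by
    rw [Gam, Subgroup.closure_le]
    rintro x (⟨j, hj, hx⟩ | ⟨i, i', h, hi, -⟩)
    · have : j = k := Fin.ext (by have := j.isLt; omega)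
      subst this; exact hx
    · have := i'.isLt; unfold Adj at h; omega
  refine ⟨fun g hg e => A.injS k (hle hg) (one_mem _) (e.trans (map_one _).symm), ?_, ?_⟩
  · intro j hj v w hv hw e
    have : j = k := Fin.ext hj
    subst this
    have hv0 : v ≠ 0 := fun h0 => by rw [h0, B_zero_right] at e; exact zero_ne_one e
    have hv' := vk_plane rfl hlast hv
    obtain ⟨g, hg, h1⟩ := exists_inS_map j (a := v (Sum.inl j)) (c := v (Sum.inr j)) (by
      by_contra hh; push Not at hh; rw [hh.1, hh.2] at hv'; simp at hv'; exact hv0 hv')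
    rw [← hv'] at h1
    obtain ⟨x, hx, rfl⟩ := A.surjS j g hg
    set w' := ap (A.π x)⁻¹ w with hw'
    have hx' := A.S_le (le_refl _) hx
    have hwk : Vk (j : ℕ) w' := by rw [hw', ← map_inv]; exact A.gam_vk (inv_mem hx') hw
    have hw2 := vk_plane rfl hlast hwk
    have hb : w' (Sum.inr j) = 1 := by
      rw [coord_inr w' j]
      conv_lhs => rw [← show ap (A.π x)⁻¹ v = ee j from ap_inv_of _ h1]
      rw [hw', B_map, e]
    refine ⟨x * A.Z j (w' (Sum.inl j)), mul_mem hx' (A.S_le (le_refl _) (A.Z_mem j _)), ?_, ?_⟩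
    · rw [map_mul, ap_mul, A.π_Z, show ap (tv (ee j) _) (ee j) = _ from tv_apply _ _ _, B_self]
      simp [h1]
    · rw [map_mul, ap_mul, A.π_Z, show ap (tv (ee j) _) (ff j) = _ from tv_apply _ _ _, B_fe_self, mul_one]
      calc ap (A.π x) (ff j + w' (Sum.inl j) • ee j) = ap (A.π x) w' := by
            conv_rhs => rw [hw2, hb, one_smul, add_comm]
        _ = w := by rw [hw', ← ap_mul, mul_inv_cancel, ap_one]
  · intro j hj g hg e
    have : j = k := Fin.ext hj
    subst this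
    obtain ⟨c, hc⟩ := eq_tv_of_fix (A.mapS j g (hle hg)) e
    rw [A.Z_eq (hle hg) hc]
    exact Subgroup.subset_closure (Or.inl (Or.inr ⟨c, rfl⟩))

end Amalg

end CfsgLib.SpAmalgam
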