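import Cfsg.Agent.Lib.SpAmalgam.Weyl

/-!
The coset decomposition by lines and the inductive step of the injectivity theorem.
-/

set_option autoImplicit false

namespace CfsgLib.SpAmalgam

open Matrix CfsgLib.SympTransvection CfsgLib.SympGen

variable {F : Type*} [Field F] {n : ℕ}

local notation "Vec" => (Fin n ⊕ Fin n → F)
local notation "Sp" => Matrix.symplecticGroup (Fin n) F

theorem inM_hv_span {i i' : Fin n} (x y a c : F) : InM i i' (hv (x • ee i + y • ee i') (a • ee i') c) := by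
  have h : B (x • ee i + y • ee i') (a • ee (F := F) i') = 0 := by
    simp only [B_add_left, B_smul_left, B_smul_right, B_ee, mul_zero, add_zero]
  refine ⟨fun l => ?_, fun l hl hl' => ?_⟩ <;> rw [hv_apply h]
  · simp only [B_add_right, B_smul_right, B_ee, mul_zero, add_zero, zero_smul]
  · simp only [B_add_right, B_smul_right, B_fe, if_neg hl, if_neg hl', mul_zero, add_zero, zero_smul]

variable {G : Type*} [Group G] {A : Amalg F n G} (T : Step A)

namespace Step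

/-- The upper triangular part of the first rank one subgroup. -/
def B1 : Subgroup G where
  carrier := {h | h ∈ A.Sg T.k ∧ ∃ a : F, a ≠ 0 ∧ ap (A.π h) (ee T.k) = a • ee T.k}
  one_mem' := ⟨one_mem _, 1, one_ne_zero, by rw [map_one, ap_one, one_smul]⟩
  mul_mem' := by
    rintro x y ⟨hx, a, ha, ea⟩ ⟨hy, b, hb, eb⟩
    exact ⟨mul_mem hx hy, b * a, mul_ne_zero hb ha, by rw [map_mul, ap_mul, eb, ap_smul, ea, smul_smul]⟩
  inv_mem' := by
    rintro x ⟨hx, a, ha, ea⟩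
    refine ⟨inv_mem hx, a⁻¹, inv_ne_zero ha, ?_⟩
    rw [map_inv]
    exact ap_inv_of _ (by rw [ap_smul, ea, smul_smul, inv_mul_cancel₀ ha, one_smul])

theorem B1_conj_Q {h : G} (hh : h ∈ T.B1) {x : G} (hx : x ∈ T.Q) : h * x * h⁻¹ ∈ T.Q := by
  obtain ⟨hS, a, -, he⟩ := hh
  obtain ⟨v, hv', c, rfl⟩ := hx
  refine ⟨a • v, T.v_smul hv' a, a ^ 2 * c, ?_⟩
  have hZ : h * A.Z T.k c * h⁻¹ = A.Z T.k (a ^ 2 * c) :=
    conj_eq_of_inj (A.injS T.k) hS (A.Z_mem _ _) (A.Z_mem _ _) (by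
      rw [A.π_Z, A.π_Z, conj_tv, show (A.π h).1 *ᵥ ee T.k = _ from he, tv_smul])
  rw [← T.scale_U hS he hv', ← hZ]
  group

/-- The stabiliser of the first line. -/
def P1 : Subgroup G where
  carrier := {x | ∃ q ∈ T.Q, ∃ h ∈ T.B1, ∃ g ∈ T.Gp, x = q * h * g}
  one_mem' := ⟨1, one_mem _, 1, one_mem _, 1, one_mem _, by group⟩
  mul_mem' := by
    rintro _ _ ⟨q, hq, h, hh, g, hg, rfl⟩ ⟨q', hq', h', hh', g', hg', rfl⟩
    refine ⟨q * (h * (g * q' * g⁻¹) * h⁻¹), mul_mem hq (T.B1_conj_Q hh (T.Gp_conj_Q hg hq')), h * h',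
      mul_mem hh hh', g * g', mul_mem hg hg', ?_⟩
    calc q * h * g * (q' * h' * g') = q * (h * (g * q' * g⁻¹) * h⁻¹) * h * (g * h') * g' := by group
      _ = q * (h * (g * q' * g⁻¹) * h⁻¹) * h * (h' * g) * g' := by rw [(T.commute_S hg hh'.1).eq]
      _ = _ := by group
  inv_mem' := by
    rintro _ ⟨q, hq, h, hh, g, hg, rfl⟩
    refine ⟨g⁻¹ * (h⁻¹ * q⁻¹ * (h⁻¹)⁻¹) * (g⁻¹)⁻¹, T.Gp_conj_Q (inv_mem hg) (T.B1_conj_Q (inv_mem hh) (inv_mem hq)),
      h⁻¹, inv_mem hh, g⁻¹, inv_mem hg, ?_⟩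
    calc (q * h * g)⁻¹ = g⁻¹ * (h⁻¹ * q⁻¹ * h) * (h⁻¹ * g) * g⁻¹ := by group
      _ = g⁻¹ * (h⁻¹ * q⁻¹ * h) * (g * h⁻¹) * g⁻¹ := by rw [(T.commute_S hg (inv_mem hh.1)).eq]
      _ = _ := by group

theorem Q_le_P1 {x : G} (hx : x ∈ T.Q) : x ∈ T.P1 := ⟨x, hx, 1, one_mem _, 1, one_mem _, by group⟩

theorem B1_le_P1 {x : G} (hx : x ∈ T.B1) : x ∈ T.P1 := ⟨1, one_mem _, x, hx, 1, one_mem _, by group⟩

theorem Gp_le_P1 {x : G} (hx : x ∈ T.Gp) : x ∈ T.P1 := ⟨1, one_mem _, 1, one_mem _, x, hx, by group⟩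

theorem P1_line {x : G} (hx : x ∈ T.P1) : ∃ a : F, a ≠ 0 ∧ ap (A.π x) (ee T.k) = a • ee T.k := by
  obtain ⟨q, ⟨v, hv', c, rfl⟩, h, ⟨-, a, ha, he⟩, g, hg, rfl⟩ := hx
  refine ⟨a, ha, ?_⟩
  rw [map_mul _ _ g, map_mul, ap_mul, T.fix_e hg, ap_mul, he, ap_smul, T.π_UZ hv', hv_apply (T.B_e hv'), B_self,
    T.B_e hv']
  simp

theorem Zk'_Gp (c : F) : A.Z T.k' c ∈ T.Gp := A.S_le le_rfl (A.Z_mem _ c)

theorem M_le_P1 {m : G} (hm : m ∈ A.Mg T.k T.k') : m ∈ T.P1 := by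
  obtain ⟨a, c, d, rfl⟩ := A.M_cases T.hk hm
  exact mul_mem (mul_mem (T.Q_le_P1 (T.Z_mem_Q c)) (T.Q_le_P1 (T.P_mem_Q a))) (T.Gp_le_P1 (T.Zk'_Gp d))

theorem Y_conj_M (s : F) {m : G} (hm : m ∈ A.Mg T.k T.k') : T.Y s * m * (T.Y s)⁻¹ ∈ A.Mg T.k T.k' := by
  obtain ⟨a, c, d, e⟩ := inM_eq T.hk.ne (A.mapM _ _ T.hk m hm)
  have he : ap (A.π (T.Y s)) (ee T.k) = (1 : F) • ee T.k + (-s) • ee T.k' := by
    rw [T.apY, B_ee, B_ef_self]; module
  have he' : ap (A.π (T.Y s)) (ee T.k') = (0 : F) • ee T.k + (1 : F) • ee T.k' := by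
    rw [T.apY, B_ee, B_ef, if_neg T.hk.ne.symm]; module
  have hin : InM T.k T.k' (A.π (T.Y s) * A.π m * (A.π (T.Y s))⁻¹) := by
    rw [e, show A.π (T.Y s) * (hv (ee T.k) (a • ee T.k') c * tv (ee T.k') d) * (A.π (T.Y s))⁻¹ =
      (A.π (T.Y s) * hv (ee T.k) (a • ee T.k') c * (A.π (T.Y s))⁻¹) *
        (A.π (T.Y s) * tv (ee T.k') d * (A.π (T.Y s))⁻¹) by group, hv_conj, conj_tv, ap_smul, he,
      show (A.π (T.Y s)).1 *ᵥ ee T.k' = _ from he', he', zero_smul, zero_add, one_smul (M := F) (ee T.k')]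
    refine (inM_hv_span _ _ _ _).mul ?_
    exact inM_tv (Or.inr rfl) _
  obtain ⟨m', hm', e'⟩ := A.surjM _ _ T.hk _ hin
  rwa [conj_eq_of_inj (A.injMS _ _ T.k T.hk) (T.Y_mem s) (Subgroup.mem_sup_left hm) (Subgroup.mem_sup_left hm') e'.symm]

theorem X_conj_M (t : F) {m : G} (hm : m ∈ A.Mg T.k T.k') : T.X t * m * (T.X t)⁻¹ ∈ A.Mg T.k T.k' := by
  obtain ⟨a, c, d, e⟩ := inM_eq T.hk.ne (A.mapM _ _ T.hk m hm)
  have he : ap (A.π (T.X t)) (ee T.k) = ee T.k := by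
    rw [T.apX, B_ee, B_ef, if_neg T.hk.ne]; module
  have he' : ap (A.π (T.X t)) (ee T.k') = (-t) • ee T.k + (1 : F) • ee T.k' := by
    rw [T.apX, B_ee, B_ef_self]; module
  have hin : InM T.k T.k' (A.π (T.X t) * A.π m * (A.π (T.X t))⁻¹) := by
    rw [e, show A.π (T.X t) * (hv (ee T.k) (a • ee T.k') c * tv (ee T.k') d) * (A.π (T.X t))⁻¹ =
      (A.π (T.X t) * hv (ee T.k) (a • ee T.k') c * (A.π (T.X t))⁻¹) *
        (A.π (T.X t) * tv (ee T.k') d * (A.π (T.X t))⁻¹) by group, hv_conj, conj_tv, ap_smul, he,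
      show (A.π (T.X t)).1 *ᵥ ee T.k' = _ from he', he']
    refine InM.mul ?_ (inM_tv_span _ _ _)
    have hB : B (ee (F := F) T.k) (a • ((-t) • ee T.k + (1 : F) • ee T.k')) = 0 := by
      simp only [B_add_right, B_smul_right, B_ee, mul_zero, add_zero]
    refine ⟨fun l => ?_, fun l hl hl' => ?_⟩ <;> rw [hv_apply hB]
    · simp only [B_add_right, B_smul_right, B_ee, mul_zero, add_zero, zero_smul]
    · simp only [B_add_right, B_smul_right, B_fe, if_neg hl, if_neg hl', mul_zero, add_zero, zero_smul]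
  obtain ⟨m', hm', e'⟩ := A.surjM _ _ T.hk _ hin
  rwa [conj_eq_of_inj (A.injMS _ _ T.k' T.hk) (T.X_mem t) (Subgroup.mem_sup_left hm) (Subgroup.mem_sup_left hm') e'.symm]

theorem Wl_conj_M (t : F) {m : G} (hm : m ∈ A.Mg T.k T.k') : T.Wl t * m * (T.Wl t)⁻¹ ∈ A.Mg T.k T.k' := by
  have := T.X_conj_M t (T.Y_conj_M (-t⁻¹) (T.X_conj_M t hm))
  convert this using 1
  rw [Wl]; group

theorem high_commute_Wl {g : G} (hg : g ∈ A.Gam ((T.k' : ℕ) + 1)) (t : F) : Commute g (T.Wl t) := by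
  have hle : g ∈ T.Gp := by
    induction hg using Subgroup.closure_induction with
    | mem x hx =>
      refine Subgroup.subset_closure ?_
      rcases hx with ⟨j, hj, hx⟩ | ⟨i, i', h, hi, hx⟩
      · exact Or.inl ⟨j, by omega, hx⟩
      · exact Or.inr ⟨i, i', h, by omega, hx⟩
    | one => exact one_mem _
    | mul a b _ _ ha hb => exact mul_mem ha hb
    | inv a _ ha => exact inv_mem ha
  have hf : ap (A.π g) (ff T.k') = ff T.k' := (A.gam_fix hg (Nat.lt_succ_self _)).2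
  have hX : ∀ s, Commute g (T.X s) := fun s => by
    have := T.U_conj hle (T.v_smul T.v_f' s)
    rw [ap_smul, hf] at this
    exact mul_inv_eq_iff_eq_mul.1 this
  have hY : ∀ s, Commute g (T.Y s) := fun s => by
    have hW : Commute g T.W1 := (T.commute_S hle (T.rot_mem _)).symm
    have hP : Commute g (T.P s) := by
      clear hle hf hX hW
      induction hg using Subgroup.closure_induction with
      | mem x hx =>
        rcases hx with ⟨j, hj, hx⟩ | ⟨i, i', h, hi, hx⟩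
        · refine A.commute_S_P T.hk (fun e => ?_) (fun e => ?_) hx s
          · have := congrArg Fin.val e; have := T.lt; omega
          · have := congrArg Fin.val e; omega
        · exact A.commute_M_P T.hk h hx s
      | one => exact Commute.one_left _
      | mul a b _ _ ha hb => exact ha.mul_left hb
      | inv a _ ha => exact ha.inv_left
    exact (hW.mul_right hP).mul_right hW.inv_right
  exact ((hX t).mul_right (hY _)).mul_right (hX t)

theorem St_conj {t : F} (ht : t ≠ 0) {x : G} (hx : x ∈ A.St T.k') : T.Wl t * x * (T.Wl t)⁻¹ ∈ T.P1 := by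
  have key : A.St T.k' ≤ T.P1.comap (MulAut.conj (T.Wl t)).toMonoidHom := by
    rw [Amalg.St, Subgroup.closure_le]
    rintro y ((hy | ⟨c, rfl⟩) | ⟨g, hg, k'', h'', a, rfl⟩) <;>
      show T.Wl t * _ * (T.Wl t)⁻¹ ∈ T.P1
    · rw [← (T.high_commute_Wl hy t).eq, mul_inv_cancel_right]
      refine T.Gp_le_P1 ?_
      exact (Subgroup.closure_mono (fun z hz => by
        rcases hz with ⟨j, hj, hz⟩ | ⟨i, i', h, hi, hz⟩
        · exact Or.inl ⟨j, by omega, hz⟩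
        · exact Or.inr ⟨i, i', h, by omega, hz⟩)) hy
    · rw [T.conj_Z' ht]; exact T.Q_le_P1 (T.Z_mem_Q _)
    · have hc := T.high_commute_Wl hg t
      have hle : g ∈ T.Gp := (Subgroup.closure_mono (fun z hz => by
        rcases hz with ⟨j, hj, hz⟩ | ⟨i, i', h, hi, hz⟩
        · exact Or.inl ⟨j, by omega, hz⟩
        · exact Or.inr ⟨i, i', h, by omega, hz⟩)) hg
      rw [show T.Wl t * (g * A.P T.k' k'' a * g⁻¹) * (T.Wl t)⁻¹ = (T.Wl t * g) * A.P T.k' k'' a * (T.Wl t * g)⁻¹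
        by group, ← hc.eq, show g * T.Wl t * A.P T.k' k'' a * (g * T.Wl t)⁻¹ =
          g * (T.Wl t * A.P T.k' k'' a * (T.Wl t)⁻¹) * g⁻¹ by group, T.Wl_R h'' ht]
      exact T.Q_le_P1 (T.Gp_conj_Q hle (T.U_mem_Q (T.v_smul (T.v_e'' h'') _)))
  exact key hx

/-- The short Weyl element with parameter one. -/
noncomputable abbrev W : G := T.Wl 1

/-- The three cells. -/
def Cell (x : G) : Prop :=
  x ∈ T.P1 ∨ (∃ g ∈ T.Gp, ∃ b : F, ∃ p ∈ T.P1, x = g * T.X b * T.W * p) ∨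
    ∃ q ∈ T.Q, ∃ p ∈ T.P1, x = q * T.W1 * p

theorem Cell.mul_right {T : Step A} {x : G} (h : T.Cell x) {p : G} (hp : p ∈ T.P1) : T.Cell (x * p) := by
  rcases h with h | ⟨g, hg, b, p', hp', rfl⟩ | ⟨q, hq, p', hp', rfl⟩
  · exact Or.inl (mul_mem h hp)
  · exact Or.inr (Or.inl ⟨g, hg, b, p' * p, mul_mem hp' hp, by group⟩)
  · exact Or.inr (Or.inr ⟨q, hq, p' * p, mul_mem hp' hp, by group⟩)

theorem cell_one : T.Cell 1 := Or.inl (one_mem _)

theorem cell_W : T.Cell T.W :=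
  Or.inr (Or.inl ⟨1, one_mem _, 0, 1, one_mem _, by rw [T.X_zero]; group⟩)

theorem Gp_left {g : G} (hg : g ∈ T.Gp) {x : G} (h : T.Cell x) : T.Cell (g * x) := by
  rcases h with h | ⟨g', hg', b, p, hp, rfl⟩ | ⟨q, hq, p, hp, rfl⟩
  · exact Or.inl (mul_mem (T.Gp_le_P1 hg) h)
  · exact Or.inr (Or.inl ⟨g * g', mul_mem hg hg', b, p, hp, by group⟩)
  · refine Or.inr (Or.inr ⟨g * q * g⁻¹, T.Gp_conj_Q hg hq, g * p, mul_mem (T.Gp_le_P1 hg) hp, ?_⟩)
    calc g * (q * T.W1 * p) = g * q * (g⁻¹ * g * T.W1) * p := by group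
      _ = g * q * (g⁻¹ * (T.W1 * g)) * p := by rw [mul_assoc g⁻¹, (T.commute_S hg (T.rot_mem _)).eq]
      _ = _ := by group

theorem U_W_cell {v : Vec} (hv' : T.V v) : T.Cell (T.U v * T.W) := by
  by_cases hb : B v (ee T.k') = 0
  swap
  · obtain ⟨g, hg, e1, e2⟩ := T.IH.pair T.k' rfl (ee T.k') ((B v (ee T.k'))⁻¹ • v) T.v_e'
      (T.v_smul hv' _) (by rw [B_smul_left, inv_mul_cancel₀ hb])
    have hst : g⁻¹ ∈ A.St T.k' := T.IH.stab T.k' rfl _ (inv_mem hg) (by rw [map_inv]; exact ap_inv_of _ e1)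
    have hU : T.U v = g * T.X (B v (ee T.k')) * g⁻¹ := by
      rw [X, T.U_conj hg (T.v_smul T.v_f' _), ap_smul, e2, smul_smul, mul_inv_cancel₀ hb, one_smul]
    have hp := T.St_conj (neg_ne_zero.2 (one_ne_zero (α := F))) hst
    rw [← T.Wl_inv, inv_inv] at hp
    refine Or.inr (Or.inl ⟨g, hg, B v (ee T.k'), _, hp, ?_⟩)
    rw [hU]; group
  set a := -B v (ff T.k') with ha
  set x := v - a • ee T.k' with hx
  have hx' : T.V x := by rw [hx, sub_eq_add_neg]; exact T.v_add hv' (T.v_neg (T.v_smul T.v_e' a))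
  have hxe : B x (ee T.k') = 0 := by rw [hx, B_sub_left, B_smul_left, B_self, hb]; ring
  have hxf : B x (ff T.k') = 0 := by rw [hx, B_sub_left, B_smul_left, B_ef_self, ha]; ring
  have hU : T.U v = T.P a * T.U x := by
    rw [← T.U_line, T.U_add (T.v_smul T.v_e' a) hx', B_smul_right, hxe, mul_zero, A.Z_zero, mul_one]
    congr 1
    rw [hx]; module
  have h1 : T.W⁻¹ * T.P a * T.W ∈ T.P1 := by
    have := T.Wl_conj_M (-1) (T.P_mem a)
    rw [← T.Wl_inv, inv_inv] at this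
    exact T.M_le_P1 this
  have h2 : T.W⁻¹ * T.U x * T.W ∈ T.P1 := by
    by_cases hx0 : x = 0
    · rw [hx0, T.U_zero]; simp
    have hlt : (T.k' : ℕ) + 1 < n := by
      by_contra hcon
      have hlast : (T.k' : ℕ) + 1 = n := by have := T.k'.isLt; omega
      refine hx0 ((Amalg.vk_plane rfl hlast hx').trans ?_)
      rw [coord_inl x T.k', coord_inr x T.k', hxe, hxf]
      simp
    set k'' : Fin n := ⟨(T.k' : ℕ) + 1, hlt⟩
    have h'' : Adj T.k' k'' := rfl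
    have hxk : Amalg.Vk ((T.k' : ℕ) + 1) x := fun j hj => by
      by_cases hjk : (j : ℕ) < T.k'
      · exact hx' j hjk
      · rw [show j = T.k' from Fin.ext (by omega)]
        exact ⟨hxe, hxf⟩
    obtain ⟨g, hg, e⟩ := T.IH2.trans k'' rfl hxk hx0
    have hle : g ∈ T.Gp := (Subgroup.closure_mono (fun z hz => by
        rcases hz with ⟨j, hj, hz⟩ | ⟨i, i', h, hi, hz⟩
        · exact Or.inl ⟨j, by omega, hz⟩
        · exact Or.inr ⟨i, i', h, by omega, hz⟩)) hg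
    rw [show T.U x = g * T.U ((1 : F) • ee k'') * g⁻¹ by
      rw [T.U_conj hle (T.v_smul (T.v_e'' h'') 1), one_smul, e]]
    have h3 := T.Wl_U3 h'' (neg_ne_zero.2 (one_ne_zero (α := F))) 1
    rw [← T.Wl_inv, inv_inv] at h3
    have hcW := T.high_commute_Wl hg 1
    rw [show T.W⁻¹ * (g * T.U ((1 : F) • ee k'') * g⁻¹) * T.W =
        (T.W⁻¹ * g) * T.U ((1 : F) • ee k'') * (g⁻¹ * T.W) by group, ← hcW.inv_right.eq, hcW.inv_left.eq,
      show g * T.W⁻¹ * T.U ((1 : F) • ee k'') * (T.W * g⁻¹) =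
        g * (T.W⁻¹ * T.U ((1 : F) • ee k'') * T.W) * g⁻¹ by group, h3]
    exact T.Gp_le_P1 (mul_mem (mul_mem hle (T.R_mem h'' _)) (inv_mem hle))
  refine Or.inr (Or.inl ⟨1, one_mem _, 0, _, mul_mem h1 h2, ?_⟩)
  rw [T.X_zero, hU]; group

theorem Q_left {q : G} (hq : q ∈ T.Q) {x : G} (h : T.Cell x) : T.Cell (q * x) := by
  rcases h with h | ⟨g, hg, b, p, hp, rfl⟩ | ⟨q', hq', p, hp, rfl⟩
  · exact Or.inl (mul_mem (T.Q_le_P1 hq) h)
  · have h1 : g⁻¹ * q * g ∈ T.Q := by simpa using T.Gp_conj_Q (inv_mem hg) hq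
    obtain ⟨v, hv', c, e⟩ := mul_mem h1 (T.U_mem_Q (T.v_smul T.v_f' b))
    have hZ := T.conj_Z (neg_ne_zero.2 (one_ne_zero (α := F))) c
    rw [← T.Wl_inv, inv_inv] at hZ
    have hc := ((T.U_W_cell hv').mul_right (T.Gp_le_P1 (T.Zk'_Gp (c / (-1) ^ 2)))).mul_right hp
    convert T.Gp_left hg hc using 1
    rw [← hZ]
    calc q * (g * T.X b * T.W * p) = g * (g⁻¹ * q * g * T.X b) * T.W * p := by group
      _ = g * (T.U v * A.Z T.k c) * T.W * p := by rw [X, e]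
      _ = _ := by group
  · exact Or.inr (Or.inr ⟨q * q', mul_mem hq hq', p, hp, by group⟩)

theorem M_left {m : G} (hm : m ∈ A.Mg T.k T.k') {x : G} (h : T.Cell x) : T.Cell (m * x) := by
  obtain ⟨a, c, d, rfl⟩ := A.M_cases T.hk hm
  rw [mul_assoc, mul_assoc]
  exact T.Q_left (T.Z_mem_Q c) (T.Q_left (T.P_mem_Q a) (T.Gp_left (T.Zk'_Gp d) h))

theorem diag_left {h : G} (hh : h ∈ A.Sg T.k) {a : F} (ha : a ≠ 0) (he : ap (A.π h) (ee T.k) = a • ee T.k)
    (hf : ap (A.π h) (ff T.k) = a⁻¹ • ff T.k) {x : G} (hx : T.Cell x) : T.Cell (h * x) := by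
  have hB : h ∈ T.B1 := ⟨hh, a, ha, he⟩
  rcases hx with hx | ⟨g, hg, b, p, hp, rfl⟩ | ⟨q, hq, p, hp, rfl⟩
  · exact Or.inl (mul_mem (T.B1_le_P1 hB) hx)
  · have h1 := T.conj_S (neg_ne_zero.2 (one_ne_zero (α := F))) hh
    rw [← T.Wl_inv, inv_inv] at h1
    refine Or.inr (Or.inl ⟨g, hg, a * b, _, mul_mem (T.Gp_le_P1 (A.S_le le_rfl h1)) hp, ?_⟩)
    rw [← T.scale_X hh he]
    calc h * (g * T.X b * T.W * p) = (h * g) * T.X b * T.W * p := by group
      _ = (g * h) * T.X b * T.W * p := by rw [(T.commute_S hg hh).eq]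
      _ = _ := by group
  · have h1 : T.W1⁻¹ * h * T.W1 ∈ T.B1 := by
      refine ⟨mul_mem (mul_mem (inv_mem (T.rot_mem _)) hh) (T.rot_mem _), a⁻¹, inv_ne_zero ha, ?_⟩
      rw [map_mul, map_mul, map_inv, ap_mul, (T.rot_apply _).1, ap_mul, hf]
      exact ap_inv_of _ (by rw [ap_smul, (T.rot_apply _).1])
    exact Or.inr (Or.inr ⟨h * q * h⁻¹, T.B1_conj_Q hB hq, _, mul_mem (T.B1_le_P1 h1) hp, by group⟩)

theorem Wl_rel {s t : F} (hs : s ≠ 0) (ht : t ≠ 0) : (T.Wl s)⁻¹ * T.Wl t ∈ T.P1 := by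
  have hD : (T.Wl s)⁻¹ * T.Wl t ∈ T.D := by
    have := T.Wl_mul_inv_mem (neg_ne_zero.2 hs) (neg_ne_zero.2 ht)
    rwa [← T.Wl_inv, ← T.Wl_inv, inv_inv] at this
  obtain ⟨d₁, h1, d₂, h2, e⟩ := T.D_split hD
  rw [e]
  refine mul_mem (T.B1_le_P1 ⟨h1, s / t, div_ne_zero hs ht, ?_⟩) (T.Gp_le_P1 (A.S_le le_rfl h2))
  have he := congrArg (fun d => ap (A.π d) (ee T.k)) e
  simp only [map_mul, map_inv, ap_mul, (T.fix_of_S' h2).1, (T.Wl_apply ht).1] at he
  rw [← he]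
  refine ap_inv_of _ ?_
  rw [ap_smul, (T.Wl_apply hs).1, smul_smul]
  congr 1
  field_simp

/-- The square of the Weyl element of the first plane. -/
theorem W1_sq : T.W1 * T.W1 ∈ A.Sg T.k ∧ ap (A.π (T.W1 * T.W1)) (ee T.k) = (-1 : F) • ee T.k ∧
    ap (A.π (T.W1 * T.W1)) (ff T.k) = (-1 : F)⁻¹ • ff T.k := by
  refine ⟨mul_mem (T.rot_mem _) (T.rot_mem _), ?_, ?_⟩
  · rw [map_mul, ap_mul, (T.rot_apply _).1, (T.rot_apply _).2, neg_one_smul]
  · rw [map_mul, ap_mul, (T.rot_apply _).2, ap_neg, (T.rot_apply _).1, inv_neg, inv_one, neg_one_smul]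

theorem W1_sq_B1 : T.W1 * T.W1 ∈ T.B1 :=
  ⟨T.W1_sq.1, -1, neg_ne_zero.2 one_ne_zero, T.W1_sq.2.1⟩

theorem cell_W1 : T.Cell T.W1 := Or.inr (Or.inr ⟨1, one_mem _, 1, one_mem _, by group⟩)

theorem cell_W1_inv : T.Cell T.W1⁻¹ := by
  have := T.cell_W1.mul_right (T.B1_le_P1 (inv_mem T.W1_sq_B1))
  convert this using 1
  group

theorem W1_conj_Z (c : F) : T.W1 * A.Z T.k c * T.W1⁻¹ = A.Zf T.k c :=
  conj_eq_of_inj (A.injS T.k) (T.rot_mem _) (A.Z_mem _ _) (A.Zf_mem _ _) (by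
    rw [A.π_Z, A.π_Zf, conj_tv, show (A.π T.W1).1 *ᵥ ee T.k = _ from (T.rot_apply _).1])

theorem cell_Y_Zf (a c : F) : T.Cell (T.Y a * A.Zf T.k c) := by
  by_cases hc : c = 0
  · subst hc
    have hZ : A.Zf T.k (0 : F) = 1 := by rw [← T.W1_conj_Z, A.Z_zero]; group
    rw [hZ, mul_one]
    by_cases ha : a = 0
    · subst ha; rw [Y, T.P_zero]; simpa using T.cell_one
    have ht : -a⁻¹ ≠ 0 := neg_ne_zero.2 (inv_ne_zero ha)
    have e : T.Y a = T.X (a⁻¹) * T.Wl (-a⁻¹) * T.X (a⁻¹) := by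
      rw [Wl, show -(-a⁻¹)⁻¹ = a by rw [inv_neg, neg_neg, inv_inv]]
      calc T.Y a = (T.X a⁻¹ * T.X (-a⁻¹)) * T.Y a * (T.X (-a⁻¹) * T.X a⁻¹) := by
            rw [T.X_add, T.X_add, add_neg_cancel, neg_add_cancel, T.X_zero]; group
        _ = _ := by group
    refine Or.inr (Or.inl ⟨1, one_mem _, a⁻¹, _, mul_mem (T.Wl_rel one_ne_zero ht)
      (T.Q_le_P1 (T.U_mem_Q (T.v_smul T.v_f' a⁻¹))), ?_⟩)
    rw [e, X]; group
  · have hb : (A.Z T.k (-c⁻¹) * T.W1)⁻¹ * A.Zf T.k c ∈ T.B1 := by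
      refine ⟨mul_mem (inv_mem (mul_mem (A.Z_mem _ _) (T.rot_mem _))) (A.Zf_mem _ _), -c, neg_ne_zero.2 hc, ?_⟩
      rw [map_mul, map_inv, ap_mul, A.π_Zf]
      refine ap_inv_of _ ?_
      rw [map_mul, ap_mul, ap_smul, (T.rot_apply _).1, A.π_Z, ap, tv_apply, ap, tv_apply, B_smul_left, B_fe_self,
        B_ef_self, mul_one, show -c⁻¹ * -c = (1 : F) by field_simp]
      module
    set b := (A.Z T.k (-c⁻¹) * T.W1)⁻¹ * A.Zf T.k c with hbdef
    have hκ := T.Y_conj_M a (T.Z_M (-c⁻¹))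
    have hin := T.M_left hκ (T.cell_W1.mul_right (mul_mem (T.Q_le_P1 (T.P_mem_Q a)) (T.B1_le_P1 hb)))
    convert hin using 1
    rw [hbdef, Y]; group

theorem W1_left {x : G} (hx : T.Cell x) : T.Cell (T.W1 * x) := by
  rcases hx with hx | ⟨g, hg, b, p, hp, rfl⟩ | ⟨q, hq, p, hp, rfl⟩
  · exact T.cell_W1.mul_right hx
  · have hc := T.commute_S hg (T.rot_mem T.k)
    rw [show T.W1 * (g * T.X b * T.W * p) = (T.W1 * g) * (T.X b * T.W) * p by group, hc.eq,
      show g * T.W1 * (T.X b * T.W) * p = g * (T.W1 * (T.X b * T.W)) * p by group]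
    refine Cell.mul_right ?_ hp
    refine T.Gp_left hg ?_
    by_cases hb : b = 0
    · subst hb
      have h1 := T.conj_S (neg_ne_zero.2 (one_ne_zero (α := F))) (T.rot_mem T.k)
      rw [← T.Wl_inv, inv_inv] at h1
      have := T.cell_W.mul_right (T.Gp_le_P1 (A.S_le le_rfl h1))
      convert this using 1
      rw [T.X_zero]; group
    · have e : T.X b * T.Wl (-b) = T.Y b⁻¹ * T.X (-b) := by
        rw [Wl, ← mul_assoc, ← mul_assoc, T.X_add, add_neg_cancel, T.X_zero, one_mul, inv_neg, neg_neg]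
      have hrel := T.Wl_rel (neg_ne_zero.2 hb) one_ne_zero
      have hin := ((T.diag_left T.W1_sq.1 (neg_ne_zero.2 one_ne_zero) T.W1_sq.2.1 T.W1_sq.2.2
        (T.Q_left (T.P_mem_Q b⁻¹) T.cell_W1_inv)).mul_right (T.Q_le_P1 (T.U_mem_Q (T.v_smul T.v_f' (-b))))).mul_right
        hrel
      convert hin using 1
      change T.W1 * (T.X b * T.W) = T.W1 * T.W1 * (T.P b⁻¹ * T.W1⁻¹) * T.X (-b) * ((T.Wl (-b))⁻¹ * T.Wl 1)
      calc T.W1 * (T.X b * T.W) = T.W1 * (T.X b * T.Wl (-b)) * ((T.Wl (-b))⁻¹ * T.Wl 1) := by group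
        _ = _ := by rw [e, Y]; group
  · obtain ⟨v, hv', c, rfl⟩ := hq
    obtain ⟨a, g, hg, hU⟩ : ∃ a : F, ∃ g ∈ T.Gp, T.U v = g * T.P a * g⁻¹ := by
      by_cases h0 : v = 0
      · exact ⟨0, 1, one_mem _, by rw [h0, T.U_zero, T.P_zero]; group⟩
      · obtain ⟨g, hg, e⟩ := T.exists_move hv' h0
        exact ⟨1, g, hg, T.U_spec hg e⟩
    have hin := T.Gp_left hg (((T.cell_Y_Zf a c).mul_right (T.B1_le_P1 T.W1_sq_B1)).mul_right
      (mul_mem (T.Gp_le_P1 (inv_mem hg)) hp))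
    convert hin using 1
    have hc := T.commute_S hg (T.rot_mem T.k)
    have hcZ := T.commute_Z hg c
    rw [← T.W1_conj_Z, Y, hU]
    calc T.W1 * (g * T.P a * g⁻¹ * A.Z T.k c * T.W1 * p)
        = (T.W1 * g) * T.P a * (g⁻¹ * A.Z T.k c) * T.W1 * p := by group
      _ = (g * T.W1) * T.P a * (A.Z T.k c * g⁻¹) * T.W1 * p := by rw [hc.eq, hcZ.inv_right.eq]
      _ = g * T.W1 * T.P a * A.Z T.k c * (g⁻¹ * T.W1) * p := by group
      _ = g * T.W1 * T.P a * A.Z T.k c * (T.W1 * g⁻¹) * p := by rw [hc.inv_right.eq]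
      _ = _ := by group

/-- Elements preserving the union of the cells. -/
def Stable : Subgroup G where
  carrier := {γ | ∀ x, T.Cell x ↔ T.Cell (γ * x)}
  one_mem' := fun x => by rw [one_mul]
  mul_mem' := by
    intro a b ha hb x
    rw [hb x, ha (b * x), mul_assoc]
  inv_mem' := by
    intro a ha x
    rw [ha (a⁻¹ * x), mul_inv_cancel_left]

theorem stable_of_left {γ : G} (h1 : ∀ x, T.Cell x → T.Cell (γ * x)) (h2 : ∀ x, T.Cell x → T.Cell (γ⁻¹ * x)) :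
    γ ∈ T.Stable := fun x => ⟨h1 x, fun h => by simpa using h2 _ h⟩

theorem gam_le_stable : A.Gam (T.k : ℕ) ≤ T.Stable := by
  have hGp : ∀ g ∈ T.Gp, g ∈ T.Stable := fun g hg =>
    T.stable_of_left (fun x => T.Gp_left hg) fun x => T.Gp_left (inv_mem hg)
  have hQ : ∀ g ∈ T.Q, g ∈ T.Stable := fun g hg =>
    T.stable_of_left (fun x => T.Q_left hg) fun x => T.Q_left (inv_mem hg)
  have hW : T.W1 ∈ T.Stable := T.stable_of_left (fun x => T.W1_left) fun x hx => by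
    obtain ⟨hs, he, hf⟩ := T.W1_sq
    have h2 : ap (A.π (T.W1 * T.W1)⁻¹) (ee T.k) = (-1 : F) • ee T.k := by
      rw [map_inv]
      exact ap_inv_of _ (by rw [ap_smul, he, smul_smul, neg_one_mul, neg_neg, one_smul])
    have h3 : ap (A.π (T.W1 * T.W1)⁻¹) (ff T.k) = (-1 : F)⁻¹ • ff T.k := by
      rw [map_inv]
      exact ap_inv_of _ (by rw [ap_smul, hf, smul_smul, inv_neg, inv_one, neg_one_mul, neg_neg, one_smul])
    have := T.diag_left (inv_mem hs) (neg_ne_zero.2 one_ne_zero) h2 h3 (T.W1_left hx)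
    convert this using 1
    group
  rw [Amalg.Gam, Subgroup.closure_le]
  rintro x (⟨j, hj, hx⟩ | ⟨i, i', h, hi, hx⟩)
  · by_cases hjk : j = T.k
    · subst hjk
      have hle : Subgroup.closure (Set.range (A.Z T.k) ∪ Set.range (A.Zf T.k)) ≤ T.Stable := by
        rw [Subgroup.closure_le]
        rintro _ (⟨c, rfl⟩ | ⟨c, rfl⟩)
        · exact hQ _ (T.Z_mem_Q c)
        · rw [← T.W1_conj_Z]
          exact mul_mem (mul_mem hW (hQ _ (T.Z_mem_Q c))) (inv_mem hW)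
      exact hle (A.S_gen hx)
    · refine hGp _ (A.S_le ?_ hx)
      have : (j : ℕ) ≠ T.k := fun e => hjk (Fin.ext e)
      have := T.succ_eq; omega
  · by_cases hik : i = T.k
    · subst hik
      have : i' = T.k' := Fin.ext (by have := T.succ_eq; unfold Adj at h; omega)
      subst this
      obtain ⟨a, c, d, rfl⟩ := A.M_cases T.hk hx
      exact mul_mem (mul_mem (hQ _ (T.Z_mem_Q c)) (hQ _ (T.P_mem_Q a))) (hGp _ (T.Zk'_Gp d))
    · refine hGp _ (A.M_le h ?_ hx)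
      have : (i : ℕ) ≠ T.k := fun e => hik (Fin.ext e)
      have := T.succ_eq; omega

theorem cell_of_mem {γ : G} (hγ : γ ∈ A.Gam (T.k : ℕ)) : T.Cell γ := by
  have := (T.gam_le_stable hγ 1).1 T.cell_one
  rwa [mul_one] at this

theorem P1_of_fix {γ : G} (hγ : γ ∈ A.Gam (T.k : ℕ)) (he : ap (A.π γ) (ee T.k) = ee T.k) : γ ∈ T.P1 := by
  rcases T.cell_of_mem hγ with h | ⟨g, hg, b, p, hp, rfl⟩ | ⟨q, ⟨v, hv', c, rfl⟩, p, hp, rfl⟩
  · exact h
  · exfalso
    obtain ⟨a, ha, hpe⟩ := T.P1_line hp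
    rw [map_mul, map_mul, map_mul, ap_mul, hpe, ap_smul, ap_mul, (T.Wl_apply one_ne_zero).1, inv_one, one_smul,
      ap_mul] at he
    have h2 : a • ap (A.π (T.X b)) (ee T.k') = ee T.k := by
      apply ap_inj (A.π g)
      rw [ap_smul, he, T.fix_e hg]
    rw [T.apX] at h2
    have := congrArg (fun z => B z (ff T.k')) h2
    simp only [B_add_left, B_smul_left, B_self, B_ee, B_ef, if_neg T.hk.ne, if_true, mul_zero, zero_mul, add_zero,
      zero_smul, mul_neg, mul_one] at this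
    exact ha (by simpa using this)
  · exfalso
    obtain ⟨a, ha, hpe⟩ := T.P1_line hp
    rw [map_mul, map_mul _ _ T.W1, ap_mul, hpe, ap_smul, ap_mul, (T.rot_apply _).1, T.π_UZ hv',
      hv_apply (T.B_e hv'), T.B_f hv', B_fe_self] at he
    have := congrArg (fun z => B z (ee T.k)) he
    simp only [B_smul_left, B_add_left, B_self, B_fe_self, (hv' T.k T.lt).1, mul_zero, add_zero, mul_one,
      zero_add] at this
    exact ha (by simpa using this)

theorem fix_split {γ : G} (hγ : γ ∈ A.Gam (T.k : ℕ)) (he : ap (A.π γ) (ee T.k) = ee T.k) :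
    ∃ v, T.V v ∧ ∃ c, ∃ g ∈ T.Gp, γ = T.U v * A.Z T.k c * g := by
  obtain ⟨_, ⟨v, hv', c, rfl⟩, h, ⟨hS, a, ha, hhe⟩, g, hg, rfl⟩ := T.P1_of_fix hγ he
  rw [map_mul _ _ g, map_mul, ap_mul, T.fix_e hg, ap_mul, hhe, ap_smul, T.π_UZ hv', hv_apply (T.B_e hv'), B_self,
    T.B_e hv'] at he
  have hfix : ap (A.π h) (ee T.k) = ee T.k := by
    rw [hhe]
    simpa using he
  obtain ⟨d, hd⟩ := eq_tv_of_fix (A.mapS _ h hS) hfix
  refine ⟨v, hv', c + d, g, hg, ?_⟩
  rw [A.Z_eq hS hd, mul_assoc (T.U v), A.Z_add]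

theorem good : A.Good (T.k : ℕ) := by
  refine ⟨?_, ?_, ?_⟩
  · intro γ hγ hπ
    obtain ⟨v, hv', c, g, hg, rfl⟩ := T.fix_split hγ (by rw [hπ, ap_one])
    have h1 : SpAmalgam.hv (ee T.k) v c = (A.π g)⁻¹ := by
      rw [← T.π_UZ hv']
      exact eq_inv_of_mul_eq_one_left (by rw [← map_mul, hπ])
    have h2 := congrArg (fun M => ap M (ff T.k)) h1
    simp only [hv_apply (T.B_e hv'), T.B_f hv', B_fe_self, zero_add, mul_one, one_smul,
      ap_inv_of _ (T.fix_f hg)] at h2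
    have hc : c = 0 := by
      have h3 := congrArg (fun z => B z (ff T.k)) h2
      simp only [B_add_left, B_smul_left, B_self, B_ef_self, (hv' T.k T.lt).2, add_zero] at h3
      linear_combination -h3
    subst hc
    have hv0 : v = 0 := by simpa using h2
    subst hv0
    rw [T.U_zero, A.Z_zero, one_mul, one_mul] at hπ ⊢
    exact T.IH.inj g hg hπ
  · intro j hj v w hv' hw hB
    have : j = T.k := Fin.ext hj
    subst this
    set a := -B v (ff T.k) with ha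
    set c := B v (ee T.k) with hc
    set x := v - a • ee T.k - c • ff T.k with hx
    have hxV : T.V x := fun i hi => by
      by_cases hik : i = T.k
      · subst hik
        rw [hx, B_sub_left, B_sub_left, B_sub_left, B_sub_left, B_smul_left, B_smul_left, B_smul_left, B_smul_left,
          B_self, B_self, B_fe_self, B_ef_self, ha, hc]
        constructor <;> ring
      · have hlt : (i : ℕ) < T.k := by
          have := T.succ_eq; have : (i : ℕ) ≠ T.k := fun e => hik (Fin.ext e); omega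
        rw [hx, B_sub_left, B_sub_left, B_sub_left, B_sub_left, B_smul_left, B_smul_left, B_smul_left, B_smul_left,
          B_ee, B_ff, B_fe, B_ef, if_neg (Ne.symm hik), if_neg (Ne.symm hik), (hv' i hlt).1, (hv' i hlt).2]
        constructor <;> ring
    have hGQ : ∀ q ∈ T.Q, q ∈ A.Gam (T.k : ℕ) := by
      have hGp : ∀ g ∈ T.Gp, g ∈ A.Gam (T.k : ℕ) := fun g hg => (Subgroup.closure_mono (fun z hz => by
        rcases hz with ⟨j, hj, hz⟩ | ⟨i, i', h, hi, hz⟩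
        · exact Or.inl ⟨j, by have := T.succ_eq; omega, hz⟩
        · exact Or.inr ⟨i, i', h, by have := T.succ_eq; omega, hz⟩)) hg
      rintro _ ⟨y, hy, d, rfl⟩
      refine mul_mem ?_ (A.S_le le_rfl (A.Z_mem _ _))
      by_cases hy0 : y = 0
      · rw [hy0, T.U_zero]; exact one_mem _
      obtain ⟨g, hg, e⟩ := T.exists_move hy hy0
      rw [T.U_spec hg e]
      exact mul_mem (mul_mem (hGp g hg) (A.M_le T.hk le_rfl (T.P_mem 1))) (inv_mem (hGp g hg))
    have hGS : ∀ z ∈ A.Sg T.k, z ∈ A.Gam (T.k : ℕ) := fun z hz => A.S_le le_rfl hz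
    obtain ⟨γ, hγ, hγe⟩ : ∃ γ ∈ A.Gam (T.k : ℕ), ap (A.π γ) (ee T.k) = v := by
      by_cases hc0 : c = 0
      · by_cases hx0 : x = 0
        · have hv_eq : v = a • ee T.k := by
            rw [hx, hc0, zero_smul, sub_zero, sub_eq_zero] at hx0; exact hx0
          have ha0 : a ≠ 0 := fun h0 => by
            rw [hv_eq, h0, zero_smul, B_zero_right] at hB; exact zero_ne_one hB
          obtain ⟨g, hg, h1, -⟩ := exists_diag T.k ha0
          obtain ⟨h, hh, rfl⟩ := A.surjS _ g hg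
          exact ⟨h, hGS h hh, by rw [h1, hv_eq]⟩
        · obtain ⟨g, hg, e⟩ := T.exists_move hxV hx0
          have hXm : ∀ b, T.X b ∈ A.Gam (T.k : ℕ) := fun b => hGQ _ (T.U_mem_Q (T.v_smul T.v_f' b))
          have hYm : ∀ b, T.Y b ∈ A.Gam (T.k : ℕ) := fun b => mul_mem (mul_mem (hGS _ (T.rot_mem _))
            (hGQ _ (T.P_mem_Q b))) (inv_mem (hGS _ (T.rot_mem _)))
          have hgk : g ∈ A.Gam (T.k : ℕ) := (Subgroup.closure_mono (fun z hz => by
            rcases hz with ⟨j, hj, hz⟩ | ⟨i, i', h, hi, hz⟩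
            · exact Or.inl ⟨j, by have := T.succ_eq; omega, hz⟩
            · exact Or.inr ⟨i, i', h, by have := T.succ_eq; omega, hz⟩)) hg
          refine ⟨g * (T.X (-a) * T.W), mul_mem hgk (mul_mem (hXm _) (mul_mem (mul_mem (hXm 1) (hYm _)) (hXm 1))), ?_⟩
          rw [map_mul, map_mul, ap_mul, ap_mul, (T.Wl_apply one_ne_zero).1, inv_one, one_smul, T.apX, B_ee, B_ef_self,
            mul_zero, zero_smul, add_zero, ap_add, ap_smul, T.fix_e hg, e, hx, hc0]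
          module
      · obtain ⟨g, hg, h1, -⟩ := exists_diag T.k hc0
        obtain ⟨h, hh, rfl⟩ := A.surjS _ g hg
        have hy : T.V (c⁻¹ • x) := T.v_smul hxV _
        refine ⟨T.U (c⁻¹ • x) * A.Z T.k (a / c) * T.W1 * h, mul_mem (mul_mem (hGQ _ ⟨_, hy, _, rfl⟩)
          (hGS _ (T.rot_mem _))) (hGS h hh), ?_⟩
        rw [map_mul _ _ h, map_mul _ _ T.W1, ap_mul, h1, ap_smul, ap_mul, (T.rot_apply _).1, T.π_UZ hy,
          hv_apply (T.B_e hy), T.B_f hy, B_fe_self, zero_add, mul_one, one_smul, smul_add, smul_add, smul_smul,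
          smul_smul, mul_div_cancel₀ a hc0, mul_inv_cancel₀ hc0, one_smul, hx]
        module
    set w' := ap (A.π γ)⁻¹ w with hw'
    have hw'V : Amalg.Vk (T.k : ℕ) w' := by rw [hw', ← map_inv]; exact A.gam_vk (inv_mem hγ) hw
    have hw'e : B w' (ee T.k) = 1 := by
      rw [hw', ← ap_inv_of _ hγe, B_map, hB]
    set x' := w' - (-B w' (ff T.k)) • ee T.k - ff T.k with hx'
    have hx'V : T.V x' := fun i hi => by
      by_cases hik : i = T.k
      · subst hik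
        rw [hx', B_sub_left, B_sub_left, B_sub_left, B_sub_left, B_smul_left, B_smul_left,
          B_self, B_self, B_fe_self, B_ef_self, hw'e]
        constructor <;> ring
      · have hlt : (i : ℕ) < T.k := by
          have := T.succ_eq; have : (i : ℕ) ≠ T.k := fun e => hik (Fin.ext e); omega
        rw [hx', B_sub_left, B_sub_left, B_sub_left, B_sub_left, B_smul_left, B_smul_left,
          B_ee, B_ff, B_fe, B_ef, if_neg (Ne.symm hik), if_neg (Ne.symm hik), (hw'V i hlt).1, (hw'V i hlt).2]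
        constructor <;> ring
    refine ⟨γ * (T.U x' * A.Z T.k (-B w' (ff T.k))), mul_mem hγ (hGQ _ ⟨x', hx'V, _, rfl⟩), ?_, ?_⟩
    · rw [map_mul, ap_mul, T.π_UZ hx'V, hv_apply (T.B_e hx'V), T.B_e hx'V, B_self]
      simp [hγe]
    · rw [map_mul, ap_mul, T.π_UZ hx'V, hv_apply (T.B_e hx'V), T.B_f hx'V, B_fe_self, zero_add, mul_one, one_smul]
      rw [show ff T.k + (-B w' (ff T.k)) • ee T.k + x' = w' by rw [hx']; module, hw', ← ap_mul, mul_inv_cancel, ap_one]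
  · intro j hj γ hγ he
    have : j = T.k := Fin.ext hj
    subst this
    obtain ⟨v, hv', c, g, hg, rfl⟩ := T.fix_split hγ he
    have hgSt : g ∈ A.St T.k := Subgroup.subset_closure (Or.inl (Or.inl (by
      show g ∈ A.Gam ((T.k : ℕ) + 1)
      rw [T.succ_eq]; exact hg)))
    refine mul_mem (mul_mem ?_ (Subgroup.subset_closure (Or.inl (Or.inr ⟨c, rfl⟩)))) hgSt
    by_cases h0 : v = 0
    · rw [h0, T.U_zero]; exact one_mem _
    obtain ⟨g₁, hg₁, e⟩ := T.exists_move hv' h0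
    exact Subgroup.subset_closure (Or.inr ⟨g₁, by rw [T.succ_eq]; exact hg₁, T.k', T.hk, 1, T.U_spec hg₁ e⟩)

end Step

end CfsgLib.SpAmalgam
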