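import Cfsg.Agent.Lib.SpAmalgam.Basic

/-!
The Heisenberg radical at the first index, by transport of one short root element.
-/

set_option autoImplicit false

namespace CfsgLib.SpAmalgam

open Matrix CfsgLib.SympTransvection CfsgLib.SympGen

variable {F : Type*} [Field F] {n : ℕ}

local notation "Vec" => (Fin n ⊕ Fin n → F)
local notation "Sp" => Matrix.symplecticGroup (Fin n) F

variable {G : Type*} [Group G]

/-- The inductive step. -/
structure Step (A : Amalg F n G) where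
  /-- The index. -/
  k : Fin n
  /-- The next index. -/
  k' : Fin n
  hk : Adj k k'
  IH : A.Good (k' : ℕ)
  IH2 : A.Good ((k' : ℕ) + 1)
  hF : ∃ a : F, a ≠ 0 ∧ a ≠ 1

variable {A : Amalg F n G} (T : Step A)

namespace Step

theorem lt : (T.k : ℕ) < (T.k' : ℕ) := by have := T.hk; unfold Adj at this; omega

theorem succ_eq : (T.k : ℕ) + 1 = (T.k' : ℕ) := by have := T.hk; unfold Adj at this; omega

/-- The smaller group. -/
abbrev Gp : Subgroup G := A.Gam (T.k' : ℕ)

/-- The supported vectors. -/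
abbrev V (v : Vec) : Prop := Amalg.Vk (T.k' : ℕ) v

theorem fix_e {g : G} (hg : g ∈ T.Gp) : ap (A.π g) (ee T.k) = ee T.k := (A.gam_fix hg T.lt).1

theorem fix_f {g : G} (hg : g ∈ T.Gp) : ap (A.π g) (ff T.k) = ff T.k := (A.gam_fix hg T.lt).2

theorem B_e {v : Vec} (hv : T.V v) : B (ee T.k) v = 0 := by rw [B_swap, (hv T.k T.lt).1, neg_zero]

theorem B_f {v : Vec} (hv : T.V v) : B (ff T.k) v = 0 := by rw [B_swap, (hv T.k T.lt).2, neg_zero]

theorem v_zero : T.V 0 := fun _ _ => ⟨B_zero_left _, B_zero_left _⟩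

theorem v_add {v w : Vec} (hv : T.V v) (hw : T.V w) : T.V (v + w) := fun j hj =>
  ⟨by rw [B_add_left, (hv j hj).1, (hw j hj).1, add_zero], by rw [B_add_left, (hv j hj).2, (hw j hj).2, add_zero]⟩

theorem v_smul {v : Vec} (hv : T.V v) (a : F) : T.V (a • v) := fun j hj =>
  ⟨by rw [B_smul_left, (hv j hj).1, mul_zero], by rw [B_smul_left, (hv j hj).2, mul_zero]⟩

theorem v_neg {v : Vec} (hv : T.V v) : T.V (-v) := by simpa using T.v_smul hv (-1)

theorem v_ee {j : Fin n} (h : (T.k' : ℕ) ≤ j) : T.V (ee j) := fun i hi =>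
  ⟨B_ee j i, by rw [B_ef, if_neg]; rintro rfl; omega⟩

theorem v_ff {j : Fin n} (h : (T.k' : ℕ) ≤ j) : T.V (ff j) := fun i hi =>
  ⟨by rw [B_fe, if_neg]; rintro rfl; omega, B_ff j i⟩

theorem v_e' : T.V (ee T.k') := T.v_ee le_rfl

theorem v_f' : T.V (ff T.k') := T.v_ff le_rfl

theorem commute_S {g : G} (hg : g ∈ T.Gp) {x : G} (hx : x ∈ A.Sg T.k) : Commute x g := by
  induction hg using Subgroup.closure_induction with
  | mem y hy =>
    rcases hy with ⟨l, hl, hy⟩ | ⟨i, i', h, hi, hy⟩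
    · exact A.commute_SS (by rintro rfl; have := T.lt; omega) hx hy
    · have hkl := T.lt
      have hne : T.k ≠ i := fun e => by have := congrArg Fin.val e; omega
      have hne' : T.k ≠ i' := fun e => by have := congrArg Fin.val e; unfold Adj at h; omega
      refine commute_of_inj (A.injMS i i' T.k h) (Subgroup.mem_sup_right hx) (Subgroup.mem_sup_left hy) ?_
      have hX := A.mapS _ x hx
      have hY := A.mapM i i' h y hy
      refine (commute_iff_eq _ _).2 (ext_bas fun m => ?_)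
      by_cases hm : m = T.k
      · subst hm
        constructor
        · rw [ap_mul, ap_mul, hY.1, inS_plane hX (Or.inl rfl), ap_add, ap_smul, ap_smul, hY.1,
            hY.2 _ hne hne']
        · rw [ap_mul, ap_mul, hY.2 _ hne hne', inS_plane hX (Or.inr rfl), ap_add, ap_smul, ap_smul, hY.1,
            hY.2 _ hne hne']
      · refine ⟨by rw [ap_mul, ap_mul, hY.1, (hX m hm).1, hY.1], ?_⟩
        rw [ap_mul, ap_mul, (hX m hm).2]
        refine inS_commute_fix hX ?_ ?_
        · conv_lhs => rw [← hY.1 T.k]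
          rw [B_map, B_fe, if_neg hm]
        · conv_lhs => rw [← hY.2 _ hne hne']
          rw [B_map, B_ff]
  | one => exact Commute.one_right x
  | mul a b _ _ ha hb => exact ha.mul_right hb
  | inv a _ ha => exact ha.inv_right

theorem commute_Z {g : G} (hg : g ∈ T.Gp) (c : F) : Commute (A.Z T.k c) g := T.commute_S hg (A.Z_mem _ c)

theorem Z_M (c : F) : A.Z T.k c ∈ A.Mg T.k T.k' := A.Z_mem_M T.hk (Or.inl rfl) c

theorem Z'_M (c : F) : A.Z T.k' c ∈ A.Mg T.k T.k' := A.Z_mem_M T.hk (Or.inr rfl) c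

/-- The short root element of the first two indices. -/
noncomputable abbrev P (a : F) : G := A.P T.k T.k' a

theorem π_P (a : F) : A.π (T.P a) = hv (ee T.k) (a • ee T.k') 0 := A.π_P T.hk a

theorem P_mem (a : F) : T.P a ∈ A.Mg T.k T.k' := A.P_mem T.hk a

theorem commute_St {x : G} (hx : x ∈ A.St T.k') : Commute x (T.P 1) := by
  induction hx using Subgroup.closure_induction with
  | mem y hy =>
    rcases hy with (hy | ⟨c, rfl⟩) | ⟨g, hg, i', h', a, rfl⟩
    · induction hy using Subgroup.closure_induction with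
      | mem z hz =>
        rcases hz with ⟨l, hl, hz⟩ | ⟨i, j, h, hi, hz⟩
        · refine A.commute_S_P T.hk (fun e => ?_) (fun e => ?_) hz 1
          · have := congrArg Fin.val e; have := T.lt; omega
          · have := congrArg Fin.val e; omega
        · exact A.commute_M_P T.hk h hz 1
      | one => exact Commute.one_left _
      | mul a b _ _ ha hb => exact ha.mul_left hb
      | inv a _ ha => exact ha.inv_left
    · exact A.commute_M_P T.hk T.hk (T.Z'_M c) 1
    · have hc : Commute g (T.P 1) := by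
        induction hg using Subgroup.closure_induction with
        | mem z hz =>
          rcases hz with ⟨l, hl, hz⟩ | ⟨i, j, h, hi, hz⟩
          · refine A.commute_S_P T.hk (fun e => ?_) (fun e => ?_) hz 1
            · have := congrArg Fin.val e; have := T.lt; omega
            · have := congrArg Fin.val e; omega
          · exact A.commute_M_P T.hk h hz 1
        | one => exact Commute.one_left _
        | mul a b _ _ ha hb => exact ha.mul_left hb
        | inv a _ ha => exact ha.inv_left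
      exact (hc.mul_left (A.commute_M_P T.hk h' (A.P_mem h' a) 1)).mul_left hc.inv_left
  | one => exact Commute.one_left _
  | mul a b _ _ ha hb => exact ha.mul_left hb
  | inv a _ ha => exact ha.inv_left

/-- The root element attached to a vector. -/
noncomputable def U (v : Vec) : G :=
  open Classical in if h : ∃ g, g ∈ T.Gp ∧ ap (A.π g) (ee T.k') = v then h.choose * T.P 1 * h.choose⁻¹ else 1

theorem U_spec {g : G} (hg : g ∈ T.Gp) {v : Vec} (e : ap (A.π g) (ee T.k') = v) :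
    T.U v = g * T.P 1 * g⁻¹ := by
  have h : ∃ g, g ∈ T.Gp ∧ ap (A.π g) (ee T.k') = v := ⟨g, hg, e⟩
  rw [U, dif_pos h]
  have hc := T.commute_St (T.IH.stab T.k' rfl (g⁻¹ * h.choose) (mul_mem (inv_mem hg) h.choose_spec.1) (by
    rw [map_mul, map_inv, ap_mul, h.choose_spec.2]; exact ap_inv_of _ e))
  set g₀ := h.choose
  calc g₀ * T.P 1 * g₀⁻¹ = g * ((g⁻¹ * g₀) * T.P 1) * g₀⁻¹ := by group
    _ = g * (T.P 1 * (g⁻¹ * g₀)) * g₀⁻¹ := by rw [hc.eq]
    _ = g * T.P 1 * g⁻¹ := by group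

theorem U_zero : T.U 0 = 1 := by
  rw [U, dif_neg]
  rintro ⟨g, -, e⟩
  have := ap_inj (A.π g) (e.trans (ap_zero _).symm)
  exact one_ne_zero (α := F) (by simpa [ee, bas] using congrFun this (Sum.inl T.k'))

theorem exists_move {v : Vec} (hv : T.V v) (h : v ≠ 0) : ∃ g, g ∈ T.Gp ∧ ap (A.π g) (ee T.k') = v :=
  T.IH.trans T.k' rfl hv h

theorem π_U {v : Vec} (hv : T.V v) : A.π (T.U v) = SpAmalgam.hv (ee T.k) v 0 := by
  by_cases h : v = 0
  · subst h; rw [T.U_zero, map_one, hv_zero_zero]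
  obtain ⟨g, hg, e⟩ := T.exists_move hv h
  rw [T.U_spec hg e, map_mul, map_mul, map_inv, T.π_P, hv_conj, one_smul, e, T.fix_e hg]

theorem U_conj {g : G} (hg : g ∈ T.Gp) {v : Vec} (hv : T.V v) : g * T.U v * g⁻¹ = T.U (ap (A.π g) v) := by
  by_cases h : v = 0
  · subst h; rw [ap_zero, T.U_zero]; group
  obtain ⟨g₀, hg₀, e⟩ := T.exists_move hv h
  rw [T.U_spec hg₀ e, T.U_spec (mul_mem hg hg₀) (v := ap (A.π g) v) (by rw [map_mul, ap_mul, e])]
  group

theorem U_line (a : F) : T.U (a • ee T.k') = T.P a := by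
  by_cases h : a = 0
  · subst h
    rw [zero_smul, T.U_zero]
    exact A.P_eq T.hk (j := T.k') (one_mem _) (by rw [map_one, zero_smul, hv_zero_zero])
  obtain ⟨g, hg, e⟩ := exists_inS_map T.k' (a := a) (c := 0) (Or.inl h)
  obtain ⟨x, hx, rfl⟩ := A.surjS T.k' g hg
  rw [zero_smul, add_zero] at e
  have hx' : x ∈ T.Gp := A.S_le le_rfl hx
  rw [T.U_spec hx' e]
  refine A.P_eq T.hk (j := T.k') (mul_mem (mul_mem (Subgroup.mem_sup_right hx) (Subgroup.mem_sup_left (T.P_mem 1)))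
    (inv_mem (Subgroup.mem_sup_right hx))) ?_
  rw [map_mul, map_mul, map_inv, T.π_P, hv_conj, one_smul, e, T.fix_e hx']

theorem P_zero : T.P 0 = 1 := by rw [← T.U_line, zero_smul, T.U_zero]

theorem U_mem_plane (a b : F) : T.U (a • ee T.k' + b • ff T.k') ∈ A.Mg T.k T.k' ⊔ A.Sg T.k' := by
  by_cases h : a ≠ 0 ∨ b ≠ 0
  · obtain ⟨g, hg, e⟩ := exists_inS_map T.k' h
    obtain ⟨x, hx, rfl⟩ := A.surjS T.k' g hg
    rw [T.U_spec (A.S_le le_rfl hx) e]
    exact mul_mem (mul_mem (Subgroup.mem_sup_right hx) (Subgroup.mem_sup_left (T.P_mem 1)))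
      (inv_mem (Subgroup.mem_sup_right hx))
  · push Not at h
    rw [h.1, h.2, zero_smul, zero_smul, add_zero, T.U_zero]
    exact one_mem _

theorem U_commute_Z {v : Vec} (hv : T.V v) (c : F) : Commute (A.Z T.k c) (T.U v) := by
  by_cases h : v = 0
  · subst h; rw [T.U_zero]; exact Commute.one_right _
  obtain ⟨g, hg, e⟩ := T.exists_move hv h
  rw [T.U_spec hg e]
  exact ((T.commute_Z hg c).mul_right (A.commute_M_P T.hk T.hk (T.Z_M c) 1)).mul_right (T.commute_Z hg c).inv_right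

theorem hv_split {v : Vec} (hv' : T.V v) (c : F) :
    SpAmalgam.hv (ee T.k) v c = SpAmalgam.hv (ee T.k) v 0 * tv (ee T.k) c := by
  rw [← hv_zero_eq_tv (ee T.k) c, hv_mul (T.B_e hv') (B_zero_right _), add_zero, zero_add, B_zero_left, add_zero]

theorem π_UZ {v : Vec} (hv' : T.V v) (c : F) :
    A.π (T.U v * A.Z T.k c) = SpAmalgam.hv (ee T.k) v c := by
  rw [map_mul, T.π_U hv', A.π_Z, ← T.hv_split hv']

theorem hv_inj {v w : Vec} (hv' : T.V v) (hw : T.V w) {c d : F}
    (h : SpAmalgam.hv (ee T.k) v c = SpAmalgam.hv (ee T.k) w d) : v = w ∧ c = d := by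
  have := congrArg (fun g => ap g (ff T.k)) h
  simp only [hv_apply (T.B_e hv'), hv_apply (T.B_e hw), T.B_f hv', T.B_f hw, B_fe_self, zero_add, mul_one,
    one_smul, add_assoc, add_right_inj] at this
  have hcd : c = d := by
    have h2 := congrArg (fun z => B z (ff T.k)) this
    simp only [B_add_left, B_smul_left, B_ef_self, (hv' T.k T.lt).2, (hw T.k T.lt).2, add_zero] at h2
    linear_combination -h2
  subst hcd
  exact ⟨by simpa using this, rfl⟩

/-- The multiplication law. -/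
def Law (v w : Vec) : Prop := T.U v * T.U w = T.U (v + w) * A.Z T.k (B w v)

theorem law_of_exists {v w : Vec} (hv' : T.V v) (hw : T.V w) {K : F}
    (h : T.U v * T.U w = T.U (v + w) * A.Z T.k K) : T.Law v w := by
  have := congrArg A.π h
  rw [map_mul, T.π_U hv', T.π_U hw, hv_mul (T.B_e hv') (T.B_e hw), T.π_UZ (T.v_add hv' hw), zero_add, zero_add] at this
  rw [Law, (T.hv_inj (T.v_add hv' hw) (T.v_add hv' hw) this).2]
  exact h

theorem law_plane (a b c d : F) :
    T.Law (a • ee T.k' + b • ff T.k') (c • ee T.k' + d • ff T.k') := by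
  have h1 : T.V (a • ee T.k' + b • ff T.k') := T.v_add (T.v_smul T.v_e' a) (T.v_smul T.v_f' b)
  have h2 : T.V (c • ee T.k' + d • ff T.k') := T.v_add (T.v_smul T.v_e' c) (T.v_smul T.v_f' d)
  refine A.injMS _ _ T.k' T.hk (mul_mem (T.U_mem_plane a b) (T.U_mem_plane c d)) ?_ ?_
  · refine mul_mem ?_ (Subgroup.mem_sup_left (T.Z_M _))
    rw [show a • ee T.k' + b • ff T.k' + (c • ee T.k' + d • ff T.k') = (a + c) • ee T.k' + (b + d) • ff T.k' by module]
    exact T.U_mem_plane _ _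
  · rw [T.π_UZ (T.v_add h1 h2), map_mul, T.π_U h1, T.π_U h2, hv_mul (T.B_e h1) (T.B_e h2), zero_add, zero_add]

theorem law_conj {g : G} (hg : g ∈ T.Gp) {v w : Vec} (hv' : T.V v) (hw : T.V w) (h : T.Law v w) :
    T.Law (ap (A.π g) v) (ap (A.π g) w) := by
  unfold Law at h ⊢
  have hZ : Commute g (A.Z T.k (B w v)) := (T.commute_Z hg _).symm
  rw [← T.U_conj hg hv', ← T.U_conj hg hw, ← ap_add, ← T.U_conj hg (T.v_add hv' hw), B_map,
    show g * T.U v * g⁻¹ * (g * T.U w * g⁻¹) = g * (T.U v * T.U w) * g⁻¹ by group, h]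
  calc g * (T.U (v + w) * A.Z T.k (B w v)) * g⁻¹ = g * T.U (v + w) * (A.Z T.k (B w v) * g⁻¹) := by group
    _ = g * T.U (v + w) * (g⁻¹ * A.Z T.k (B w v)) := by rw [hZ.inv_left.eq]
    _ = _ := by group

theorem law_line {v : Vec} (hv' : T.V v) (a : F) : T.Law v (a • v) := by
  by_cases h : v = 0
  · subst h; simp [Law, T.U_zero, B_zero_right, A.Z_zero]
  obtain ⟨g, hg, e⟩ := T.exists_move hv' h
  have := T.law_conj hg (T.v_smul T.v_e' 1) (T.v_smul T.v_e' a) (by
    simpa using T.law_plane 1 0 a 0)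
  rw [one_smul, ap_smul, e] at this
  exact this

theorem law_nonorth {v w : Vec} (hv' : T.V v) (hw : T.V w) (h : B w v ≠ 0) : T.Law v w := by
  obtain ⟨g, hg, e1, e2⟩ := T.IH.pair T.k' rfl v ((B w v)⁻¹ • w) hv' (T.v_smul hw _)
    (by rw [B_smul_left, inv_mul_cancel₀ h])
  have := T.law_conj hg T.v_e' (T.v_smul T.v_f' (B w v)) (by simpa using T.law_plane 1 0 0 (B w v))
  rw [ap_smul, e1, e2, smul_smul, mul_inv_cancel₀ h, one_smul] at this
  exact this

theorem exists_third {v w : Vec} (hv' : T.V v) (hw : T.V w) (h : B w v = 0) (hne : v ≠ 0)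
    (hl : ∀ a : F, w ≠ a • v) :
    ∃ c, T.V c ∧ B c w = 1 ∧ B c v ≠ 0 ∧ B c v + 1 ≠ 0 := by
  obtain ⟨a, ha0, ha1⟩ := T.hF
  obtain ⟨g, hg, e⟩ := T.exists_move hv' hne
  set w₀ := ap (A.π g)⁻¹ w with hw₀
  have hw₀' : T.V w₀ := by rw [hw₀, ← map_inv]; exact A.gam_vk (inv_mem hg) hw
  have hb : B w₀ (ee T.k') = 0 := by rw [hw₀, ← ap_inv_of _ e, B_map, h]
  set w₁ := w₀ + B w₀ (ff T.k') • ee T.k' with hw₁
  have hw₁0 : w₁ ≠ 0 := by
    intro h0
    refine hl (-B w₀ (ff T.k')) ?_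
    rw [← e, ← ap_smul, neg_smul, ← eq_neg_of_add_eq_zero_left h0, hw₀, ← ap_mul, mul_inv_cancel, ap_one]
  have hw₁' : T.V w₁ := T.v_add hw₀' (T.v_smul T.v_e' _)
  obtain ⟨d, hd, hd1⟩ := Amalg.exists_dual hw₁' hw₁0
  have hw1e : B w₁ (ee T.k') = 0 := by rw [hw₁, B_add_left, B_smul_left, hb, B_self, mul_zero, add_zero]
  have hw1f : B w₁ (ff T.k') = 0 := by
    rw [hw₁, B_add_left, B_smul_left, B_ef_self]; ring
  set d₁ := d - B d (ee T.k') • ff T.k' with hd₁
  have hd₁' : T.V d₁ := by rw [hd₁, sub_eq_add_neg]; exact T.v_add hd (T.v_neg (T.v_smul T.v_f' _))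
  have hd1e : B d₁ (ee T.k') = 0 := by rw [hd₁, B_sub_left, B_smul_left, B_fe_self]; ring
  have hd1w : B d₁ w₁ = 1 := by
    rw [hd₁, B_sub_left, B_smul_left, B_swap (ff T.k') w₁, hw1f, hd1]; ring
  -- the scalar of `d₁` is adjusted to the coordinate of `w₀`
  set s := B d₁ w₀
  have hs : s = 1 := by
    have : w₀ = w₁ - B w₀ (ff T.k') • ee T.k' := by rw [hw₁]; module
    show B d₁ w₀ = 1
    rw [this, B_sub_right, B_smul_right, hd1e, hd1w]; ring
  set c := (-a) • ff T.k' + (1 + a * B (ff T.k') w₀) • d₁ with hc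
  have hc' : T.V c := T.v_add (T.v_smul T.v_f' _) (T.v_smul hd₁' _)
  have hcv : B (ap (A.π g) c) v = -a := by
    rw [← e, B_map, hc, B_add_left, B_smul_left, B_smul_left, B_fe_self, hd1e]; ring
  refine ⟨ap (A.π g) c, A.gam_vk hg hc', ?_, by rw [hcv]; exact neg_ne_zero.2 ha0, ?_⟩
  · have hwg : w = ap (A.π g) w₀ := by rw [hw₀, ← ap_mul, mul_inv_cancel, ap_one]
    conv_lhs => rw [hwg]
    rw [B_map, hc, B_add_left, B_smul_left, B_smul_left]
    show -a * B (ff T.k') w₀ + (1 + a * B (ff T.k') w₀) * s = 1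
    rw [hs]; ring
  · rw [hcv]
    intro h0
    exact ha1 (by linear_combination -h0)

theorem law {v w : Vec} (hv' : T.V v) (hw : T.V w) : T.Law v w := by
  by_cases h : B w v = 0
  swap
  · exact T.law_nonorth hv' hw h
  by_cases hne : v = 0
  · subst hne; simp [Law, T.U_zero, B_zero_right, A.Z_zero]
  by_cases hl : ∃ a : F, w = a • v
  · obtain ⟨a, rfl⟩ := hl; exact T.law_line hv' a
  push Not at hl
  obtain ⟨c, hc, h1, h2, h3⟩ := T.exists_third hv' hw h hne hl
  have hwc : B w c = -1 := by rw [B_swap, h1]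
  have e1 := T.law_nonorth hv' hc h2
  have e2 := T.law_nonorth (T.v_add hv' hc) hw (by rw [B_add_right, h, hwc, zero_add]; simp)
  have e3 := T.law_nonorth (T.v_add hv' hw) hc (by rw [B_add_right, h1]; exact h3)
  have e4 := T.law_nonorth hc hw (by rw [hwc]; simp)
  have e5 := T.law_nonorth hw hc (by rw [h1]; simp)
  unfold Law at e1 e2 e3 e4 e5
  rw [show v + c + w = v + w + c by module] at e2
  rw [show c + w = w + c by module] at e4
  have hz : ∀ x y : F, A.Z T.k x * A.Z T.k y = A.Z T.k (x + y) := A.Z_add T.k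
  have hcU : ∀ (x : Vec), T.V x → ∀ k, T.U x * A.Z T.k k = A.Z T.k k * T.U x := fun x hx k =>
    (T.U_commute_Z hx k).eq.symm
  refine T.law_of_exists hv' hw (K := B c v + B w (v + c) - B c (v + w) + B c w - B w c) ?_
  have a1 : T.U v * T.U c * T.U w = T.U (v + w + c) * A.Z T.k (B c v + B w (v + c)) := by
    rw [e1, mul_assoc, ← hcU w hw, ← mul_assoc, e2, mul_assoc, hz, add_comm (B w (v + c))]
  have a2 : T.U (v + w + c) = T.U (v + w) * T.U c * A.Z T.k (-B c (v + w)) := by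
    rw [e3, mul_assoc, hz, add_neg_cancel, A.Z_zero, mul_one]
  have a3 : T.U c * T.U w = T.U w * T.U c * A.Z T.k (B w c - B c w) := by
    rw [e4, e5, mul_assoc, hz, add_sub_cancel]
  rw [mul_assoc, a3, a2] at a1
  have a4 : T.U v * T.U w * (T.U c * A.Z T.k (B w c - B c w)) =
      T.U (v + w) * (T.U c * A.Z T.k (-B c (v + w) + (B c v + B w (v + c)))) := by
    rw [← hz]; simpa [mul_assoc] using a1
  calc T.U v * T.U w
      = T.U v * T.U w * (T.U c * A.Z T.k (B w c - B c w)) * (T.U c * A.Z T.k (B w c - B c w))⁻¹ := by group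
    _ = T.U (v + w) * (T.U c * A.Z T.k (-B c (v + w) + (B c v + B w (v + c)))) *
          ((A.Z T.k (B w c - B c w))⁻¹ * (T.U c)⁻¹) := by rw [a4, _root_.mul_inv_rev]
    _ = T.U (v + w) * (T.U c * (A.Z T.k (B c v + B w (v + c) - B c (v + w) + B c w - B w c)) * (T.U c)⁻¹) := by
          rw [A.Z_inv]
          simp only [mul_assoc]
          rw [← mul_assoc (A.Z _ _) (A.Z _ _), hz]
          congr 4
          ring
    _ = _ := by rw [hcU c hc, mul_assoc (A.Z _ _), mul_inv_cancel, mul_one]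

theorem U_add {v w : Vec} (hv' : T.V v) (hw : T.V w) :
    T.U v * T.U w = T.U (v + w) * A.Z T.k (B w v) := T.law hv' hw

theorem U_inv {v : Vec} (hv' : T.V v) : (T.U v)⁻¹ = T.U (-v) := by
  refine inv_eq_of_mul_eq_one_right ?_
  rw [T.U_add hv' (T.v_neg hv'), add_neg_cancel, T.U_zero, B_neg_left, B_self, neg_zero, A.Z_zero, one_mul]

theorem Q_mul {v w : Vec} (hv' : T.V v) (hw : T.V w) (c d : F) :
    T.U v * A.Z T.k c * (T.U w * A.Z T.k d) = T.U (v + w) * A.Z T.k (B w v + c + d) := by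
  rw [mul_assoc, ← mul_assoc (A.Z _ c), (T.U_commute_Z hw c).eq, mul_assoc (T.U w), A.Z_add, ← mul_assoc,
    T.U_add hv' hw, mul_assoc, A.Z_add, add_assoc]

/-- The radical. -/
def Q : Subgroup G where
  carrier := {x | ∃ v, T.V v ∧ ∃ c, x = T.U v * A.Z T.k c}
  one_mem' := ⟨0, T.v_zero, 0, by rw [T.U_zero, A.Z_zero, mul_one]⟩
  mul_mem' := by
    rintro _ _ ⟨v, hv', c, rfl⟩ ⟨w, hw, d, rfl⟩
    exact ⟨v + w, T.v_add hv' hw, _, T.Q_mul hv' hw c d⟩
  inv_mem' := by
    rintro _ ⟨v, hv', c, rfl⟩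
    exact ⟨-v, T.v_neg hv', -c, by
      rw [_root_.mul_inv_rev, T.U_inv hv', A.Z_inv, (T.U_commute_Z (T.v_neg hv') _).eq]⟩

theorem U_mem_Q {v : Vec} (hv' : T.V v) : T.U v ∈ T.Q := ⟨v, hv', 0, by rw [A.Z_zero, mul_one]⟩

theorem Z_mem_Q (c : F) : A.Z T.k c ∈ T.Q := ⟨0, T.v_zero, c, by rw [T.U_zero, one_mul]⟩

theorem P_mem_Q (a : F) : T.P a ∈ T.Q := by rw [← T.U_line]; exact T.U_mem_Q (T.v_smul T.v_e' a)

theorem Gp_conj_Q {g : G} (hg : g ∈ T.Gp) {x : G} (hx : x ∈ T.Q) : g * x * g⁻¹ ∈ T.Q := by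
  obtain ⟨v, hv', c, rfl⟩ := hx
  refine ⟨ap (A.π g) v, A.gam_vk hg hv', c, ?_⟩
  rw [← T.U_conj hg hv', mul_assoc _ g⁻¹, (T.commute_Z hg c).symm.inv_left.eq]
  group

theorem scale_U {h : G} (hh : h ∈ A.Sg T.k) {a : F} (he : ap (A.π h) (ee T.k) = a • ee T.k) {v : Vec} (hv' : T.V v) :
    h * T.U v * h⁻¹ = T.U (a • v) := by
  have h1 : h * T.P 1 * h⁻¹ = T.P a := by
    refine A.P_eq T.hk (j := T.k) (mul_mem (mul_mem (Subgroup.mem_sup_right hh) (Subgroup.mem_sup_left (T.P_mem 1)))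
      (inv_mem (Subgroup.mem_sup_right hh))) ?_
    rw [map_mul, map_mul, map_inv, T.π_P, hv_conj, he, one_smul, ((A.mapS _ h hh) T.k' T.hk.ne.symm).1,
      hv_smul_left (by rw [B_ee]), mul_zero]
  by_cases hv0 : v = 0
  · subst hv0; rw [smul_zero, T.U_zero]; group
  obtain ⟨g, hg, e⟩ := T.exists_move hv' hv0
  have hc := T.commute_S hg hh
  rw [T.U_spec hg e, show h * (g * T.P 1 * g⁻¹) * h⁻¹ = (h * g) * T.P 1 * (h * g)⁻¹ by group, hc.eq,
    show (g * h) * T.P 1 * (g * h)⁻¹ = g * (h * T.P 1 * h⁻¹) * g⁻¹ by group, h1, ← T.U_line,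
    T.U_conj hg (T.v_smul T.v_e' a), ap_smul, e]

end Step

end CfsgLib.SpAmalgam
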