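import Cfsg.Agent.Lib.SpAmalgam.Cells

/-!
The projection restricted to the subgroup generated by the amalgam is bijective.
-/

set_option autoImplicit false

namespace CfsgLib.SpAmalgam

open Matrix CfsgLib.SympTransvection CfsgLib.SympGen

variable {F : Type*} [Field F] {n : ℕ}

local notation "Vec" => (Fin n ⊕ Fin n → F)
local notation "Sp" => Matrix.symplecticGroup (Fin n) F

variable {G : Type*} [Group G] (A : Amalg F n G)

namespace Amalg

theorem good_of_ge {k : ℕ} (h : n ≤ k) : A.Good k where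
  inj g hg _ := by
    have : A.Gam k ≤ ⊥ := by
      rw [Gam, Subgroup.closure_le]
      rintro x (⟨j, hj, -⟩ | ⟨i, i', -, hi, -⟩)
      · have := j.isLt; omega
      · have := i.isLt; omega
    simpa using this hg
  pair j hj := absurd j.isLt (by omega)
  stab j hj := absurd j.isLt (by omega)

/-- Downward induction. -/
theorem good_all (hF : ∃ a : F, a ≠ 0 ∧ a ≠ 1) (k : ℕ) : A.Good k := by
  suffices h : ∀ m k, n ≤ k + m → A.Good k from h n k (by omega)
  intro m
  induction m with
  | zero => intro k hk; exact A.good_of_ge (by omega)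
  | succ m ih =>
    intro k hk
    by_cases h1 : n ≤ k
    · exact A.good_of_ge h1
    by_cases h2 : k + 1 = n
    · exact A.good_last ⟨k, by omega⟩ h2
    · exact Step.good (A := A) ⟨⟨k, by omega⟩, ⟨k + 1, by omega⟩, rfl, ih (k + 1) (by omega),
        ih (k + 1 + 1) (by omega), hF⟩

theorem injOn_gam (hF : ∃ a : F, a ≠ 0 ∧ a ≠ 1) : Set.InjOn A.π ↑(A.Gam 0) := (A.good_all hF 0).injOn

theorem surj_gam (hF : ∃ a : F, a ≠ 0 ∧ a ≠ 1) (hn : 0 < n) (g : Sp) : ∃ x ∈ A.Gam 0, A.π x = g := by
  suffices h : ∀ g ∈ TV F n, g ∈ (A.Gam 0).map A.π from h g (by rw [TV_eq_top]; exact Subgroup.mem_top g)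
  intro g hg
  induction hg using Subgroup.closure_induction with
  | mem y hy =>
    obtain ⟨u, c, hy⟩ := hy
    obtain rfl : y = tv u c := Subtype.ext hy
    by_cases hu : u = 0
    · subst hu
      rw [← hv_zero_eq_tv]
      have : hv (0 : Vec) (0 : Vec) c = 1 := by
        refine sp_ext fun x => ?_
        rw [hv_apply (B_zero_left _), ap_one, B_zero_right]
        simp
      rw [this]
      exact one_mem _
    · obtain ⟨γ, hγ, e⟩ := (A.good_all hF 0).trans ⟨0, hn⟩ rfl (v := u) (fun j hj => absurd hj (by omega)) hu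
      refine ⟨γ * A.Z ⟨0, hn⟩ c * γ⁻¹, mul_mem (mul_mem hγ (A.S_le (Nat.zero_le _) (A.Z_mem _ c)))
        (inv_mem hγ), ?_⟩
      rw [map_mul, map_mul, map_inv, A.π_Z, conj_tv, show (A.π γ).1 *ᵥ ee ⟨0, hn⟩ = u from e]
  | one => exact one_mem _
  | mul a b _ _ ha hb => exact mul_mem ha hb
  | inv a _ ha => exact inv_mem ha

end Amalg

end CfsgLib.SpAmalgam
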