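import Cfsg.Agent.Lib.SympGen

/-!
The root elements of `Sp(2n, F)` used in the amalgam presentation: Heisenberg elements, the
rank one subgroups and the abelian subgroups attached to adjacent indices.
-/

set_option autoImplicit false

namespace CfsgLib.SpAmalgam

open Matrix CfsgLib.SympTransvection CfsgLib.SympGen

variable {F : Type*} [Field F] {n : ℕ}

local notation "Vec" => (Fin n ⊕ Fin n → F)
local notation "Sp" => Matrix.symplecticGroup (Fin n) F

/-- The action on vectors. -/
abbrev ap (g : Sp) (x : Vec) : Vec := g.1 *ᵥ x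

theorem ap_mul (g h : Sp) (x : Vec) : ap (g * h) x = ap g (ap h x) := mul_apply g h x

theorem ap_one (x : Vec) : ap (1 : Sp) x = x := one_apply x

theorem ap_add (g : Sp) (x y : Vec) : ap g (x + y) = ap g x + ap g y := Matrix.mulVec_add _ _ _

theorem ap_sub (g : Sp) (x y : Vec) : ap g (x - y) = ap g x - ap g y := Matrix.mulVec_sub _ _ _

theorem ap_smul (g : Sp) (a : F) (x : Vec) : ap g (a • x) = a • ap g x := Matrix.mulVec_smul _ _ _

theorem ap_zero (g : Sp) : ap g (0 : Vec) = 0 := Matrix.mulVec_zero _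

theorem ap_neg (g : Sp) (x : Vec) : ap g (-x) = -ap g x := Matrix.mulVec_neg _ _

theorem ap_inv_of (g : Sp) {x y : Vec} (h : ap g x = y) : ap g⁻¹ y = x := by
  rw [← h, ← ap_mul, inv_mul_cancel, ap_one]

theorem ap_inj (g : Sp) {x y : Vec} (h : ap g x = ap g y) : x = y := by
  rw [← ap_inv_of g rfl (x := x), h, ap_inv_of g rfl]

theorem sp_ext {g h : Sp} (H : ∀ x, ap g x = ap h x) : g = h :=
  Subtype.ext (Matrix.ext_of_mulVec_single fun i => H _)

theorem B_zero_left (x : Vec) : B (0 : Vec) x = 0 := zero_dotProduct _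

theorem B_zero_right (x : Vec) : B x (0 : Vec) = 0 := by simp [B]

theorem B_neg_left (x y : Vec) : B (-x) y = -B x y := neg_dotProduct _ _

theorem B_neg_right (x y : Vec) : B x (-y) = -B x y := by simp [B, Matrix.mulVec_neg, dotProduct_neg]

/-- The product of three transvections. -/
def eich (a b : Vec) (t : F) : Sp := tv (a + b) t * (tv a (-t) * tv b (-t))

/-- Heisenberg elements. -/
def hv (e v : Vec) (c : F) : Sp := eich e v 1 * tv e c

theorem eich_apply {a b : Vec} (h : B a b = 0) (t : F) (x : Vec) :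
    ap (eich a b t) x = x + (t * B x b) • a + (t * B x a) • b := by
  have h' : B b a = 0 := by rw [B_swap, h, neg_zero]
  simp only [eich, ap, CfsgLib.SympGen.mul_apply, tv_apply, B_add_left, B_add_right, B_smul_left, B_self, h, h', mul_zero,
    add_zero, zero_add]
  module

theorem hv_apply {e v : Vec} (h : B e v = 0) (c : F) (x : Vec) :
    ap (hv e v c) x = x + (B x v + c * B x e) • e + B x e • v := by
  rw [hv, ap_mul, eich_apply h, show ap (tv e c) x = x + (c * B x e) • e from tv_apply e c x]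
  simp only [one_mul, B_add_left, B_smul_left, B_self, h, mul_zero, add_zero]
  module

theorem hv_zero_eq_tv (e : Vec) (c : F) : hv e 0 c = tv e c := by
  refine sp_ext fun x => ?_
  rw [hv_apply (B_zero_right e), ap, tv_apply, B_zero_right]
  simp

theorem hv_zero_zero (e : Vec) : hv e (0 : Vec) 0 = 1 := by
  refine sp_ext fun x => ?_
  rw [hv_apply (B_zero_right e), ap_one, B_zero_right]
  simp

theorem hv_mul {e v w : Vec} (hv' : B e v = 0) (hw : B e w = 0) (c d : F) :
    hv e v c * hv e w d = hv e (v + w) (c + d + B w v) := by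
  have hve : B v e = 0 := by rw [B_swap, hv', neg_zero]
  have hwe : B w e = 0 := by rw [B_swap, hw, neg_zero]
  refine sp_ext fun x => ?_
  rw [ap_mul, hv_apply hw, hv_apply hv', hv_apply (by rw [B_add_right, hv', hw, add_zero])]
  simp only [B_add_left, B_smul_left, B_add_right, B_self, hv', hwe, mul_zero, add_zero]
  module

theorem eich_conj (g : Sp) (a b : Vec) (t : F) : g * eich a b t * g⁻¹ = eich (ap g a) (ap g b) t := by
  simp only [eich]
  rw [← ap_add, ← conj_tv g (a + b), ← conj_tv g a, ← conj_tv g b]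
  group

theorem hv_conj (g : Sp) (e v : Vec) (c : F) : g * hv e v c * g⁻¹ = hv (ap g e) (ap g v) c := by
  simp only [hv]
  rw [← eich_conj g, ← conj_tv g e]
  group

theorem hv_smul_left {e v : Vec} (h : B e v = 0) (a c : F) : hv (a • e) v c = hv e (a • v) (a ^ 2 * c) := by
  refine sp_ext fun x => ?_
  rw [hv_apply (by rw [B_smul_left, h, mul_zero]), hv_apply (by rw [B_smul_right, h, mul_zero])]
  simp only [B_smul_right]
  module

theorem hv_symm {e v : Vec} (h : B e v = 0) : hv e v 0 = hv v e 0 := by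
  refine sp_ext fun x => ?_
  rw [hv_apply h, hv_apply (by rw [B_swap, h, neg_zero])]
  module

/-- `e_k`. -/
abbrev ee (k : Fin n) : Vec := bas (Sum.inl k)

/-- `f_k`. -/
abbrev ff (k : Fin n) : Vec := bas (Sum.inr k)

theorem B_fe (i j : Fin n) : B (ff (F := F) i) (ee j) = if i = j then 1 else 0 := B_bas_inl_inr i j

theorem B_ef (i j : Fin n) : B (ee (F := F) i) (ff j) = if i = j then -1 else 0 := B_bas_inr_inl i j

theorem B_ee (i j : Fin n) : B (ee (F := F) i) (ee j) = 0 := B_bas_inl_inl i j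

theorem B_ff (i j : Fin n) : B (ff (F := F) i) (ff j) = 0 := B_bas_inr_inr i j

theorem B_fe_self (k : Fin n) : B (ff (F := F) k) (ee k) = 1 := by rw [B_fe, if_pos rfl]

theorem B_ef_self (k : Fin n) : B (ee (F := F) k) (ff k) = -1 := by rw [B_ef, if_pos rfl]

theorem ext_bas {g h : Sp} (H : ∀ i : Fin n, ap g (ee i) = ap h (ee i) ∧ ap g (ff i) = ap h (ff i)) : g = h := by
  have : h⁻¹ * g = 1 := eq_one_of_fix _ fun i => by
    rcases i with i | i
    · exact (ap_mul _ _ _).trans (ap_inv_of h (H i).1.symm)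
    · exact (ap_mul _ _ _).trans (ap_inv_of h (H i).2.symm)
  exact (inv_mul_eq_one.1 this).symm

theorem coord_inl (x : Vec) (i : Fin n) : x (Sum.inl i) = -B x (ff i) := by
  simp [B, ff, bas, Matrix.J, dotProduct, Fintype.sum_sum_type, Matrix.fromBlocks, Matrix.one_apply]

theorem coord_inr (x : Vec) (i : Fin n) : x (Sum.inr i) = B x (ee i) := by
  simp [B, ee, bas, Matrix.J, dotProduct, Fintype.sum_sum_type, Matrix.fromBlocks, Matrix.one_apply]

/-- The rank one subgroup on the plane of `e_j, f_j`. -/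
def InS (j : Fin n) (g : Sp) : Prop := ∀ i : Fin n, i ≠ j → ap g (ee i) = ee i ∧ ap g (ff i) = ff i

/-- The abelian subgroup attached to `i, i'`. -/
def InM (i i' : Fin n) (g : Sp) : Prop :=
  (∀ l : Fin n, ap g (ee l) = ee l) ∧ ∀ l : Fin n, l ≠ i → l ≠ i' → ap g (ff l) = ff l

theorem InS.mul {j : Fin n} {g h : Sp} (hg : InS j g) (hh : InS j h) : InS j (g * h) := fun i hi =>
  ⟨by rw [ap_mul, (hh i hi).1, (hg i hi).1], by rw [ap_mul, (hh i hi).2, (hg i hi).2]⟩

theorem InS.inv {j : Fin n} {g : Sp} (hg : InS j g) : InS j g⁻¹ := fun i hi =>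
  ⟨ap_inv_of g (hg i hi).1, ap_inv_of g (hg i hi).2⟩

theorem InS.one (j : Fin n) : InS (F := F) j 1 := fun i _ => ⟨ap_one _, ap_one _⟩

theorem InM.one (i i' : Fin n) : InM (F := F) i i' 1 := ⟨fun _ => ap_one _, fun _ _ _ => ap_one _⟩

theorem InM.mul {i i' : Fin n} {g h : Sp} (hg : InM i i' g) (hh : InM i i' h) : InM i i' (g * h) :=
  ⟨fun l => by rw [ap_mul, hh.1, hg.1], fun l a b => by rw [ap_mul, hh.2 l a b, hg.2 l a b]⟩

theorem InM.inv {i i' : Fin n} {g : Sp} (hg : InM i i' g) : InM i i' g⁻¹ :=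
  ⟨fun l => ap_inv_of g (hg.1 l), fun l a b => ap_inv_of g (hg.2 l a b)⟩

theorem inS_tv {j : Fin n} {v : Vec} (h : ∀ i : Fin n, i ≠ j → B (ee i) v = 0 ∧ B (ff i) v = 0) (c : F) :
    InS j (tv v c) := fun i hi => by
  constructor <;> rw [ap, tv_apply]
  · rw [(h i hi).1, mul_zero, zero_smul, add_zero]
  · rw [(h i hi).2, mul_zero, zero_smul, add_zero]

theorem inS_tv_e (j : Fin n) (c : F) : InS j (tv (ee j) c) :=
  inS_tv (fun i hi => ⟨B_ee i j, by rw [B_fe, if_neg hi]⟩) c

theorem inS_tv_f (j : Fin n) (c : F) : InS j (tv (ff j) c) :=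
  inS_tv (fun i hi => ⟨by rw [B_ef, if_neg hi], B_ff i j⟩) c

theorem inM_hv {i i' : Fin n} (a c : F) : InM i i' (hv (ee i) (a • ee i') c) := by
  have h : B (ee (F := F) i) (a • ee i') = 0 := by rw [B_smul_right, B_ee, mul_zero]
  refine ⟨fun l => ?_, fun l hl hl' => ?_⟩
  · rw [hv_apply h, B_smul_right, B_ee, B_ee]
    simp
  · rw [hv_apply h, B_smul_right, B_fe, B_fe, if_neg hl, if_neg hl']
    simp

theorem inM_tv {i i' : Fin n} {l : Fin n} (hl : l = i ∨ l = i') (c : F) : InM i i' (tv (ee l) c) := by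
  refine ⟨fun m => ?_, fun m hm hm' => ?_⟩ <;> rw [ap, tv_apply]
  · rw [B_ee, mul_zero, zero_smul, add_zero]
  · rw [B_fe, if_neg (by rintro rfl; rcases hl with h | h <;> contradiction), mul_zero, zero_smul, add_zero]

/-- The form on a plane. -/
theorem inS_plane {j : Fin n} {g : Sp} (hg : InS j g) {x : Vec} (hx : x = ee j ∨ x = ff j) :
    ap g x = ((ap g x) (Sum.inl j)) • ee j + ((ap g x) (Sum.inr j)) • ff j := by
  funext s
  rcases s with i | i <;> by_cases hi : i = j
  · subst hi; simp [ee, ff, bas]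
  · simp only [ee, ff, bas, Pi.add_apply, Pi.smul_apply]
    rw [Pi.single_eq_of_ne (by simp [hi]), Pi.single_eq_of_ne (by simp), coord_inl (ap g x) i, ← (hg i hi).2, B_map]
    rcases hx with rfl | rfl
    · rw [B_ef, if_neg (Ne.symm hi)]; simp
    · rw [B_ff]; simp
  · subst hi; simp [ee, ff, bas]
  · simp only [ee, ff, bas, Pi.add_apply, Pi.smul_apply]
    rw [Pi.single_eq_of_ne (by simp), Pi.single_eq_of_ne (by simp [hi]), coord_inr (ap g x) i, ← (hg i hi).1, B_map]
    rcases hx with rfl | rfl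
    · rw [B_ee]; simp
    · rw [B_fe, if_neg (Ne.symm hi)]; simp

theorem eq_tv_of_fix {j : Fin n} {g : Sp} (hg : InS j g) (he : ap g (ee j) = ee j) : ∃ c, g = tv (ee j) c := by
  have hf := inS_plane hg (x := ff j) (Or.inr rfl)
  set α := (ap g (ff j)) (Sum.inl j)
  set δ := (ap g (ff j)) (Sum.inr j)
  have hd : δ = 1 := by
    have := B_map g (ff j) (ee j)
    rw [show g.1 *ᵥ ee j = ee j from he, show g.1 *ᵥ ff j = α • ee j + δ • ff j from hf, B_add_left,
      B_smul_left, B_smul_left, B_self, B_fe_self] at this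
    simpa using this
  refine ⟨α, ext_bas fun i => ?_⟩
  by_cases hi : i = j
  · subst hi
    constructor
    · rw [he, ap, tv_apply, B_self]; simp
    · rw [hf, hd, ap, tv_apply, B_fe_self, mul_one, one_smul, add_comm]
  · constructor
    · rw [(hg i hi).1, ((inS_tv_e j α) i hi).1]
    · rw [(hg i hi).2, ((inS_tv_e j α) i hi).2]

/-- The rank one subgroup is generated by its two root subgroups. -/
theorem inS_mem_closure {j : Fin n} {g : Sp} (hg : InS j g) :
    g ∈ Subgroup.closure (Set.range (tv (ee (F := F) j)) ∪ Set.range (tv (ff j))) := by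
  set K := Subgroup.closure (Set.range (tv (ee (F := F) j)) ∪ Set.range (tv (ff j)))
  have hE : ∀ c, tv (ee j) c ∈ K := fun c => Subgroup.subset_closure (Or.inl ⟨c, rfl⟩)
  have hF : ∀ c, tv (ff j) c ∈ K := fun c => Subgroup.subset_closure (Or.inr ⟨c, rfl⟩)
  have key : ∀ g : Sp, InS j g → (ap g (ee j)) (Sum.inr j) ≠ 0 → g ∈ K := by
    intro g hg hc
    have he := inS_plane hg (x := ee j) (Or.inl rfl)
    set a := (ap g (ee j)) (Sum.inl j)
    set c := (ap g (ee j)) (Sum.inr j)
    have h2 : InS j (tv (ff j) c * (tv (ee j) ((1 - a) / c) * g)) :=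
      (inS_tv_f j c).mul ((inS_tv_e j _).mul hg)
    obtain ⟨d, hd⟩ := eq_tv_of_fix h2 (by
      rw [ap_mul, ap_mul, he]
      simp only [ap, tv_apply, B_add_left, B_smul_left, B_self, B_fe_self, B_ef_self, mul_zero, zero_add,
        add_zero, mul_one]
      rw [div_mul_cancel₀ _ hc]
      module)
    have : tv (ff j) c * (tv (ee j) ((1 - a) / c) * g) ∈ K := hd ▸ hE d
    exact (K.mul_mem_cancel_left (hE _)).1 ((K.mul_mem_cancel_left (hF _)).1 this)
  by_cases hc : (ap g (ee j)) (Sum.inr j) = 0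
  · have he := inS_plane hg (x := ee j) (Or.inl rfl)
    rw [hc, zero_smul, add_zero] at he
    refine (K.mul_mem_cancel_left (hF 1)).1 (key _ ((inS_tv_f j 1).mul hg) ?_)
    rw [ap_mul, he]
    simp only [ap, tv_apply, B_smul_left, B_ef_self]
    have ha : (ap g (ee j)) (Sum.inl j) ≠ 0 := by
      intro h
      rw [h, zero_smul] at he
      exact one_ne_zero (α := F) (by simpa [ee, bas] using congrFun (ap_inj g (he.trans (ap_zero g).symm)) (Sum.inl j))
    simpa [ee, ff, bas] using ha
  · exact key g hg hc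

/-- Structure of the abelian subgroup attached to two indices. -/
theorem inM_eq {i i' : Fin n} (hii : i ≠ i') {g : Sp} (hg : InM i i' g) :
    ∃ a c d : F, g = hv (ee i) (a • ee i') c * tv (ee i') d := by
  have hpl : ∀ l, l = i ∨ l = i' → ap g (ff l) = ff l + (-B (ap g (ff l)) (ff i)) • ee i +
      (-B (ap g (ff l)) (ff i')) • ee i' := by
    intro l hl
    have hne : l = i ∨ l = i' := hl
    funext s
    rcases s with m | m
    · rw [coord_inl (ap g (ff l)) m]
      by_cases h1 : m = i
      · subst h1; simp [ee, ff, bas, hii]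
      by_cases h2 : m = i'
      · subst h2; simp [ee, ff, bas, Ne.symm hii]
      conv_lhs => rw [← hg.2 m h1 h2, B_map, B_ff]
      simp [ee, ff, bas, h1, h2]
    · rw [coord_inr (ap g (ff l)) m]
      conv_lhs => rw [← hg.1 m, B_map, B_fe]
      simp [ee, ff, bas, Pi.single_apply, eq_comm]
  have hsym : B (ap g (ff i)) (ff i') = B (ap g (ff i')) (ff i) := by
    have := B_map g (ff i) (ff i')
    rw [show g.1 *ᵥ ff i' = _ from hpl i' (Or.inr rfl), B_ff, B_add_right, B_add_right, B_smul_right, B_smul_right] at this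
    have e : ∀ m, B (g.1 *ᵥ ff i) (ee m) = if i = m then (1 : F) else 0 := fun m => by
      conv_lhs => rw [← show g.1 *ᵥ ee m = ee m from hg.1 m]
      rw [B_map, B_fe]
    rw [e, e, if_pos rfl, if_neg hii, mul_one, mul_zero, add_zero] at this
    linear_combination this
  refine ⟨-B (ap g (ff i)) (ff i'), -B (ap g (ff i)) (ff i), -B (ap g (ff i')) (ff i'), ext_bas fun m => ⟨?_, ?_⟩⟩
  · rw [hg.1, ((inM_hv _ _).mul (inM_tv (Or.inr rfl) _)).1]
  · by_cases hm : m = i
    · subst hm
      conv_lhs => rw [hpl m (Or.inl rfl)]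
      rw [ap_mul, show ap (tv (ee i') _) (ff m) = _ from tv_apply _ _ _,
        hv_apply (by rw [B_smul_right, B_ee, mul_zero])]
      simp only [B_add_left, B_smul_left, B_smul_right, B_fe, B_ee, if_neg hii, if_pos, mul_zero, mul_one,
        zero_smul, add_zero, zero_add, if_true]
      module
    by_cases hm' : m = i'
    · subst hm'
      conv_lhs => rw [hpl m (Or.inr rfl), ← hsym]
      rw [ap_mul, show ap (tv (ee m) _) (ff m) = _ from tv_apply _ _ _,
        hv_apply (by rw [B_smul_right, B_ee, mul_zero])]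
      simp only [B_add_left, B_smul_left, B_smul_right, B_fe, B_ee, if_neg hm, mul_zero, mul_one,
        zero_smul, add_zero, zero_add, if_true]
      module
    · rw [hg.2 m hm hm', ((inM_hv _ _).mul (inM_tv (Or.inr rfl) _)).2 m hm hm']

/-- Some element of the plane group moving `e_j` to a given vector. -/
theorem exists_inS_map (j : Fin n) {a c : F} (h : a ≠ 0 ∨ c ≠ 0) :
    ∃ g : Sp, InS j g ∧ ap g (ee j) = a • ee j + c • ff j := by
  have step : ∀ v w : Vec, B v w ≠ 0 → (∀ i : Fin n, i ≠ j → B (ee i) (w - v) = 0 ∧ B (ff i) (w - v) = 0) →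
      ∃ g : Sp, InS j g ∧ ap g v = w := fun v w hB hi => by
    refine ⟨tv (w - v) (B v w)⁻¹, inS_tv hi _, ?_⟩
    rw [ap, tv_apply, B_sub_right, B_self, sub_zero, inv_mul_cancel₀ hB, one_smul, add_sub_cancel]
  have perp : ∀ (x y : F) (i : Fin n), i ≠ j →
      B (ee (F := F) i) (x • ee j + y • ff j) = 0 ∧ B (ff (F := F) i) (x • ee j + y • ff j) = 0 := fun x y i hi => by
    simp only [B_add_right, B_smul_right, B_ee, B_ff, B_fe, B_ef, if_neg hi, mul_zero, add_zero, and_self]
  by_cases hc : c = 0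
  · obtain ⟨g₁, h1, h2⟩ := step (ee j) (ff j) (by rw [B_ef_self]; simp) fun i hi => by
      simpa [sub_eq_neg_add] using perp (-1) 1 i hi
    obtain ⟨g₂, h3, h4⟩ := step (ff j) (a • ee j) (by rw [B_smul_right, B_fe_self, mul_one]; exact h.resolve_right (fun h => h hc)) fun i hi => by
      simpa [sub_eq_add_neg] using perp a (-1) i hi
    exact ⟨g₂ * g₁, h3.mul h1, by rw [ap_mul, h2, h4, hc, zero_smul, add_zero]⟩
  · obtain ⟨g, h1, h2⟩ := step (ee j) (a • ee j + c • ff j)
      (by rw [B_add_right, B_smul_right, B_smul_right, B_self, B_ef_self]; simpa using hc) fun i hi => by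
      have := perp (a - 1) c i hi
      rwa [show (a - 1) • ee j + c • ff j = a • ee j + c • ff j - ee j by module] at this
    exact ⟨g, h1, h2⟩

end CfsgLib.SpAmalgam
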