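import Cfsg.Agent.Lib.SpAmalgam.Heis

/-!
The Weyl element of the short root `e_k - e_{k+1}` and its action on the neighbouring root elements.
-/

set_option autoImplicit false

namespace CfsgLib.SpAmalgam

open Matrix CfsgLib.SympTransvection CfsgLib.SympGen

variable {F : Type*} [Field F] {n : ℕ}

local notation "Vec" => (Fin n ⊕ Fin n → F)
local notation "Sp" => Matrix.symplecticGroup (Fin n) F

theorem exists_diag (j : Fin n) {a : F} (ha : a ≠ 0) :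
    ∃ g : Sp, InS j g ∧ ap g (ee j) = a • ee j ∧ ap g (ff j) = a⁻¹ • ff j := by
  obtain ⟨g, hg, e⟩ := exists_inS_map j (a := a) (c := 0) (Or.inl ha)
  rw [zero_smul, add_zero] at e
  have hf := inS_plane hg (x := ff j) (Or.inr rfl)
  set α := (ap g (ff j)) (Sum.inl j)
  set δ := (ap g (ff j)) (Sum.inr j)
  have hd : δ = a⁻¹ := by
    have := B_map g (ff j) (ee j)
    rw [show g.1 *ᵥ ee j = a • ee j from e, show g.1 *ᵥ ff j = α • ee j + δ • ff j from hf, B_add_left,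
      B_smul_left, B_smul_left, B_smul_right, B_smul_right, B_self, B_fe_self] at this
    field_simp
    linear_combination this
  refine ⟨tv (ee j) (-α * a) * g, (inS_tv_e j _).mul hg, ?_, ?_⟩
  · rw [ap_mul, e, ap_smul, ap, tv_apply, B_self]; simp
  · rw [ap_mul, hf, hd, ap_add, ap_smul, ap_smul, ap, tv_apply, ap, tv_apply, B_self, B_fe_self, mul_zero,
      mul_one, zero_smul, add_zero, smul_add, smul_smul, show a⁻¹ * (-α * a) = -α by field_simp]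
    module

theorem inM_tv_span {i i' : Fin n} (a b c : F) : InM i i' (tv (a • ee i + b • ee i') c) := by
  refine ⟨fun m => ?_, fun m hm hm' => ?_⟩ <;> rw [ap, tv_apply]
  · rw [B_add_right, B_smul_right, B_smul_right, B_ee, B_ee]; simp
  · rw [B_add_right, B_smul_right, B_smul_right, B_fe, B_fe, if_neg hm, if_neg hm']; simp

variable {G : Type*} [Group G] {A : Amalg F n G} (T : Step A)

namespace Step

theorem P_add {i i' : Fin n} (h : Adj i i') (a b : F) : A.P i i' a * A.P i i' b = A.P i i' (a + b) := by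
  refine A.P_eq h (j := i) (Subgroup.mem_sup_left (mul_mem (A.P_mem h a) (A.P_mem h b))) ?_
  rw [map_mul, A.π_P h, A.π_P h, hv_mul (by rw [B_smul_right, B_ee, mul_zero]) (by rw [B_smul_right, B_ee, mul_zero]),
    B_smul_left, B_smul_right, B_self, ← add_smul]
  simp

theorem P_inv {i i' : Fin n} (h : Adj i i') (a : F) : (A.P i i' a)⁻¹ = A.P i i' (-a) := by
  refine inv_eq_of_mul_eq_one_right ?_
  rw [P_add h, add_neg_cancel]
  exact (A.P_eq h (j := i) (one_mem _) (by rw [map_one, zero_smul, hv_zero_zero])).symm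

/-- The Weyl element of a plane. -/
noncomputable def rot (_T : Step A) (j : Fin n) : G := A.Z j (-1) * A.Zf j (-1) * A.Z j (-1)

theorem rot_mem (j : Fin n) : T.rot j ∈ A.Sg j := mul_mem (mul_mem (A.Z_mem j _) (A.Zf_mem j _)) (A.Z_mem j _)

theorem rot_apply (j : Fin n) : ap (A.π (T.rot j)) (ee j) = ff j ∧ ap (A.π (T.rot j)) (ff j) = -ee j := by
  constructor <;>
  · simp only [rot, map_mul, ap_mul, A.π_Z, A.π_Zf, ap, tv_apply, B_add_left, B_smul_left, B_self, B_fe_self, B_ef_self,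
      B_neg_left, mul_zero, mul_one, zero_smul, add_zero, zero_add]
    module

/-- The Weyl element of the first plane. -/
noncomputable abbrev W1 : G := T.rot T.k

/-- The Weyl element of the second plane. -/
noncomputable abbrev W2 : G := T.rot T.k'

theorem W2_Gp : T.W2 ∈ T.Gp := A.S_le le_rfl (T.rot_mem _)

theorem fix_of_S {x : G} (hx : x ∈ A.Sg T.k) {v : Vec} (hv' : T.V v) : ap (A.π x) v = v :=
  inS_commute_fix (A.mapS _ x hx) (hv' T.k T.lt).1 (hv' T.k T.lt).2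

theorem fix_of_S' {x : G} (hx : x ∈ A.Sg T.k') : ap (A.π x) (ee T.k) = ee T.k ∧ ap (A.π x) (ff T.k) = ff T.k :=
  (A.mapS _ x hx) T.k T.hk.ne

/-- `x_{e_k - e_{k+1}}`. -/
noncomputable def X (t : F) : G := T.U (t • ff T.k')

/-- `x_{-e_k + e_{k+1}}`. -/
noncomputable def Y (s : F) : G := T.W1 * T.P s * T.W1⁻¹

theorem X_mem (t : F) : T.X t ∈ A.Mg T.k T.k' ⊔ A.Sg T.k' := by
  have := T.U_mem_plane 0 t
  rwa [zero_smul, zero_add] at this

theorem Y_mem (s : F) : T.Y s ∈ A.Mg T.k T.k' ⊔ A.Sg T.k :=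
  mul_mem (mul_mem (Subgroup.mem_sup_right (T.rot_mem _)) (Subgroup.mem_sup_left (T.P_mem s)))
    (inv_mem (Subgroup.mem_sup_right (T.rot_mem _)))

theorem X_eq (t : F) : T.X t = T.W2 * T.P t * T.W2⁻¹ := by
  rw [← T.U_line, T.U_conj T.W2_Gp (T.v_smul T.v_e' t), ap_smul, (T.rot_apply _).1, X]

theorem π_X (t : F) : A.π (T.X t) = hv (ee T.k) (t • ff T.k') 0 := T.π_U (T.v_smul T.v_f' t)

theorem π_Y (s : F) : A.π (T.Y s) = hv (ff T.k) (s • ee T.k') 0 := by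
  rw [Y, map_mul, map_mul, map_inv, T.π_P, hv_conj, (T.rot_apply _).1,
    T.fix_of_S (T.rot_mem _) (T.v_smul T.v_e' s)]

theorem X_add (s t : F) : T.X s * T.X t = T.X (s + t) := by
  rw [X, X, T.U_add (T.v_smul T.v_f' s) (T.v_smul T.v_f' t), B_smul_left, B_smul_right, B_self, mul_zero, mul_zero,
    A.Z_zero, mul_one, ← add_smul, X]

theorem X_zero : T.X 0 = 1 := by rw [X, zero_smul, T.U_zero]

theorem X_inv (t : F) : (T.X t)⁻¹ = T.X (-t) :=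
  inv_eq_of_mul_eq_one_right (by rw [T.X_add, add_neg_cancel, T.X_zero])

theorem Y_inv (s : F) : (T.Y s)⁻¹ = T.Y (-s) := by
  rw [Y, Y, show T.P (-s) = (T.P s)⁻¹ from (P_inv T.hk s).symm]; group

/-- The short Weyl element. -/
noncomputable def Wl (t : F) : G := T.X t * T.Y (-t⁻¹) * T.X t

theorem Wl_inv (t : F) : (T.Wl t)⁻¹ = T.Wl (-t) := by
  rw [Wl, Wl, _root_.mul_inv_rev, _root_.mul_inv_rev, T.X_inv, T.Y_inv, neg_neg, inv_neg, neg_neg, mul_assoc]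

theorem apX (t : F) (x : Vec) :
    ap (A.π (T.X t)) x = x + (t * B x (ff T.k')) • ee T.k + (t * B x (ee T.k)) • ff T.k' := by
  rw [T.π_X, hv_apply (by rw [B_smul_right, B_ef, if_neg T.hk.ne, mul_zero]), B_smul_right, smul_smul]
  simp [mul_comm]

theorem apY (s : F) (x : Vec) :
    ap (A.π (T.Y s)) x = x + (s * B x (ee T.k')) • ff T.k + (s * B x (ff T.k)) • ee T.k' := by
  rw [T.π_Y, hv_apply (by rw [B_smul_right, B_fe, if_neg T.hk.ne, mul_zero]), B_smul_right, smul_smul]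
  simp [mul_comm]

theorem Wl_apply {t : F} (ht : t ≠ 0) :
    ap (A.π (T.Wl t)) (ee T.k) = t⁻¹ • ee T.k' ∧ ap (A.π (T.Wl t)) (ee T.k') = (-t) • ee T.k ∧
      ap (A.π (T.Wl t)) (ff T.k) = t • ff T.k' ∧ ap (A.π (T.Wl t)) (ff T.k') = (-t⁻¹) • ff T.k := by
  have h1 := T.hk.ne
  have h2 := T.hk.ne.symm
  refine ⟨?_, ?_, ?_, ?_⟩ <;>
  · simp only [Wl, map_mul, ap_mul, T.apX, T.apY, B_add_left, B_neg_left, B_zero_left, B_smul_left, B_self, B_ee, B_ff, B_fe, B_ef, if_neg h1,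
      if_neg h2, if_true, mul_zero, mul_one, zero_smul, add_zero, zero_add, neg_mul, mul_neg, neg_neg, inv_mul_cancel₀ ht,
      mul_inv_cancel₀ ht, neg_smul, one_smul]
    module

theorem conj_Z {t : F} (ht : t ≠ 0) (b : F) :
    T.Wl t * A.Z T.k b * (T.Wl t)⁻¹ = A.Z T.k' (b / t ^ 2) := by
  have h1 : T.X t * A.Z T.k b * (T.X t)⁻¹ = A.Z T.k b :=
    mul_inv_eq_iff_eq_mul.2 (T.U_commute_Z (T.v_smul T.v_f' t) b).eq.symm
  have hYe : ap (A.π (T.Y (-t⁻¹))) (ee T.k) = (1 : F) • ee T.k + t⁻¹ • ee T.k' := by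
    rw [T.apY, B_ee, B_ef_self]; module
  obtain ⟨m, hm, hmπ⟩ := A.surjM _ _ T.hk _ (inM_tv_span (i := T.k) (i' := T.k') (1 : F) t⁻¹ b)
  have h2 : T.Y (-t⁻¹) * A.Z T.k b * (T.Y (-t⁻¹))⁻¹ = m :=
    conj_eq_of_inj (A.injMS _ _ T.k T.hk) (T.Y_mem _) (Subgroup.mem_sup_left (T.Z_M b)) (Subgroup.mem_sup_left hm)
      (by rw [A.π_Z, conj_tv, show (A.π (T.Y (-t⁻¹))).1 *ᵥ ee T.k = _ from hYe, hmπ])
  have h3 : T.X t * m * (T.X t)⁻¹ = A.Z T.k' (b / t ^ 2) := by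
    refine conj_eq_of_inj (A.injMS _ _ T.k' T.hk) (T.X_mem t) (Subgroup.mem_sup_left hm)
      (Subgroup.mem_sup_right (A.Z_mem _ _)) ?_
    rw [hmπ, conj_tv, A.π_Z]
    have : ap (A.π (T.X t)) ((1 : F) • ee T.k + t⁻¹ • ee T.k') = t⁻¹ • ee T.k' := by
      rw [T.apX]
      simp only [B_add_left, B_smul_left, B_ee, B_ef, if_neg T.hk.ne, if_true, mul_zero, mul_one, add_zero, zero_add,
        zero_smul, mul_neg, inv_mul_cancel₀ ht, mul_inv_cancel₀ ht]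
      module
    rw [show (A.π (T.X t)).1 *ᵥ _ = _ from this, tv_smul]
    congr 1
    field_simp
  calc T.Wl t * A.Z T.k b * (T.Wl t)⁻¹
      = T.X t * (T.Y (-t⁻¹) * (T.X t * A.Z T.k b * (T.X t)⁻¹) * (T.Y (-t⁻¹))⁻¹) * (T.X t)⁻¹ := by rw [Wl]; group
    _ = _ := by rw [h1, h2, h3]

theorem conj_Zf {t : F} (ht : t ≠ 0) (b : F) :
    T.Wl t * A.Zf T.k b * (T.Wl t)⁻¹ = A.Zf T.k' (t ^ 2 * b) := by
  have hcW : Commute T.W2 T.W1 := A.commute_SS T.hk.ne.symm (T.rot_mem _) (T.rot_mem _)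
  have hcf : Commute T.W2 (A.Zf T.k b) := A.commute_SS T.hk.ne.symm (T.rot_mem _) (A.Zf_mem _ _)
  have hcf' : Commute T.W1 (A.Zf T.k' (t ^ 2 * b)) := A.commute_SS T.hk.ne (T.rot_mem _) (A.Zf_mem _ _)
  obtain ⟨m, hm, hmπ⟩ := A.surjM _ _ T.hk _ (inM_tv_span (i := T.k) (i' := T.k') (1 : F) t b)
  have hA : T.W1⁻¹ * (T.P t * A.Zf T.k b * (T.P t)⁻¹) * T.W1 = m := by
    have hJ : ∀ {x : G}, x ∈ A.Sg T.k → x ∈ A.Mg T.k T.k' ⊔ A.Sg T.k := fun h => Subgroup.mem_sup_right h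
    refine A.injMS _ _ T.k T.hk (mul_mem (mul_mem (inv_mem (hJ (T.rot_mem _))) (mul_mem (mul_mem
      (Subgroup.mem_sup_left (T.P_mem t)) (hJ (A.Zf_mem _ b))) (inv_mem (Subgroup.mem_sup_left (T.P_mem t)))))
      (hJ (T.rot_mem _))) (Subgroup.mem_sup_left hm) ?_
    have e : ap (A.π (T.W1))⁻¹ (ap (A.π (T.P t)) (ff T.k)) = (1 : F) • ee T.k + t • ee T.k' := by
      rw [T.π_P, hv_apply (by rw [B_smul_right, B_ee, mul_zero])]
      simp only [B_smul_right, B_fe, if_neg T.hk.ne, if_true, mul_zero, mul_one, zero_smul, add_zero, zero_mul, one_smul]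
      refine ap_inv_of _ ?_
      rw [ap_add, ap_smul, (T.rot_apply _).1, T.fix_of_S (T.rot_mem _) T.v_e']
    rw [hmπ]
    simp only [map_mul, map_inv, A.π_Zf]
    rw [conj_tv, show (A.π T.W1)⁻¹ * tv _ b * A.π T.W1 = (A.π T.W1)⁻¹ * tv _ b * ((A.π T.W1)⁻¹)⁻¹ by rw [inv_inv],
      conj_tv]
    exact congrArg (fun v => tv v b) e
  set q := T.W2 * m * T.W2⁻¹ with hq
  have hqJ : q ∈ A.Mg T.k T.k' ⊔ A.Sg T.k' := mul_mem (mul_mem (Subgroup.mem_sup_right (T.rot_mem _))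
    (Subgroup.mem_sup_left hm)) (inv_mem (Subgroup.mem_sup_right (T.rot_mem _)))
  have h1 : T.X t * A.Zf T.k b * (T.X t)⁻¹ = T.W1 * q * T.W1⁻¹ := by
    rw [hq, ← hA, T.X_eq]
    calc T.W2 * T.P t * T.W2⁻¹ * A.Zf T.k b * (T.W2 * T.P t * T.W2⁻¹)⁻¹
        = T.W2 * T.P t * (T.W2⁻¹ * A.Zf T.k b * T.W2) * (T.P t)⁻¹ * T.W2⁻¹ := by group
      _ = T.W2 * (T.P t * A.Zf T.k b * (T.P t)⁻¹) * T.W2⁻¹ := by
        rw [hcf.inv_left.eq, inv_mul_cancel_right]; group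
      _ = (T.W1 * T.W2 * T.W1⁻¹) * (T.P t * A.Zf T.k b * (T.P t)⁻¹) * (T.W1 * T.W2 * T.W1⁻¹)⁻¹ := by
        rw [← hcW.eq, mul_inv_cancel_right]
      _ = _ := by group
  have hπW : ap (A.π T.W1) (t • ff T.k') = t • ff T.k' := T.fix_of_S (T.rot_mem _) (T.v_smul T.v_f' t)
  have h2 : T.P (-t⁻¹) * q * (T.P (-t⁻¹))⁻¹ = A.Zf T.k' (t ^ 2 * b) := by
    refine A.injMS _ _ T.k' T.hk (mul_mem (mul_mem (Subgroup.mem_sup_left (T.P_mem _)) hqJ)
      (inv_mem (Subgroup.mem_sup_left (T.P_mem _)))) (Subgroup.mem_sup_right (A.Zf_mem _ _)) ?_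
    have e : ap (A.π T.W1)⁻¹ (ap (A.π (T.Y (-t⁻¹))) (ap (A.π (T.X t)) (ff T.k))) = t • ff T.k' := by
      refine ap_inv_of _ (hπW.trans ?_)
      rw [T.apX, T.apY]
      simp only [B_add_left, B_smul_left, B_self, B_ee, B_ff, B_fe, B_ef, if_neg T.hk.ne, if_neg T.hk.ne.symm, if_true,
        mul_zero, mul_one, zero_smul, add_zero, zero_add, neg_mul, inv_mul_cancel₀ ht]
      module
    have := congrArg A.π (show T.W1⁻¹ * (T.Y (-t⁻¹) * (T.X t * A.Zf T.k b * (T.X t)⁻¹) * (T.Y (-t⁻¹))⁻¹) * T.W1 =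
      T.P (-t⁻¹) * q * (T.P (-t⁻¹))⁻¹ by rw [h1, Y]; group)
    rw [← this]
    simp only [map_mul, map_inv, A.π_Zf]
    rw [conj_tv, conj_tv,
      show ∀ M : Sp, (A.π T.W1)⁻¹ * M * A.π T.W1 = (A.π T.W1)⁻¹ * M * ((A.π T.W1)⁻¹)⁻¹ from fun M => by rw [inv_inv],
      conj_tv]
    exact (congrArg (fun v => tv v b) e).trans (tv_smul _ t b)
  have h3 : T.X t * A.Zf T.k' (t ^ 2 * b) * (T.X t)⁻¹ = A.Zf T.k' (t ^ 2 * b) := by
    refine conj_eq_of_inj (A.injMS _ _ T.k' T.hk) (T.X_mem t) (Subgroup.mem_sup_right (A.Zf_mem _ _))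
      (Subgroup.mem_sup_right (A.Zf_mem _ _)) ?_
    rw [A.π_Zf, conj_tv]
    congr 1
    show ap (A.π (T.X t)) _ = _
    rw [T.apX, B_ff, B_fe, if_neg T.hk.ne.symm]
    simp
  calc T.Wl t * A.Zf T.k b * (T.Wl t)⁻¹
      = T.X t * (T.Y (-t⁻¹) * (T.X t * A.Zf T.k b * (T.X t)⁻¹) * (T.Y (-t⁻¹))⁻¹) * (T.X t)⁻¹ := by rw [Wl]; group
    _ = T.X t * (T.W1 * (T.P (-t⁻¹) * q * (T.P (-t⁻¹))⁻¹) * T.W1⁻¹) * (T.X t)⁻¹ := by rw [h1, Y]; group
    _ = _ := by rw [h2, hcf'.eq, mul_inv_cancel_right, h3]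

theorem conj_S {t : F} (ht : t ≠ 0) {g : G} (hg : g ∈ A.Sg T.k) : T.Wl t * g * (T.Wl t)⁻¹ ∈ A.Sg T.k' := by
  have h := A.S_gen hg
  have hle : Subgroup.closure (Set.range (A.Z T.k) ∪ Set.range (A.Zf T.k)) ≤
      (A.Sg T.k').comap (MulAut.conj (T.Wl t)).toMonoidHom := by
    rw [Subgroup.closure_le]
    rintro _ (⟨c, rfl⟩ | ⟨c, rfl⟩) <;> show T.Wl t * _ * (T.Wl t)⁻¹ ∈ A.Sg T.k'
    · rw [T.conj_Z ht]; exact A.Z_mem _ _
    · rw [T.conj_Zf ht]; exact A.Zf_mem _ _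
  exact hle h

theorem conj_Z' {t : F} (ht : t ≠ 0) (c : F) : T.Wl t * A.Z T.k' c * (T.Wl t)⁻¹ = A.Z T.k (t ^ 2 * c) := by
  have h := T.conj_Z (neg_ne_zero.2 ht) (t ^ 2 * c)
  rw [← T.Wl_inv, inv_inv, neg_sq, mul_div_cancel_left₀ c (pow_ne_zero 2 ht)] at h
  rw [← h]; group

theorem conj_Zf' {t : F} (ht : t ≠ 0) (c : F) : T.Wl t * A.Zf T.k' c * (T.Wl t)⁻¹ = A.Zf T.k (c / t ^ 2) := by
  have h := T.conj_Zf (neg_ne_zero.2 ht) (c / t ^ 2)
  rw [← T.Wl_inv, inv_inv, neg_sq, mul_div_cancel₀ c (pow_ne_zero 2 ht)] at h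
  rw [← h]; group

theorem conj_S' {t : F} (ht : t ≠ 0) {g : G} (hg : g ∈ A.Sg T.k') : T.Wl t * g * (T.Wl t)⁻¹ ∈ A.Sg T.k := by
  have h := A.S_gen hg
  have hle : Subgroup.closure (Set.range (A.Z T.k') ∪ Set.range (A.Zf T.k')) ≤
      (A.Sg T.k).comap (MulAut.conj (T.Wl t)).toMonoidHom := by
    rw [Subgroup.closure_le]
    rintro _ (⟨c, rfl⟩ | ⟨c, rfl⟩) <;> show T.Wl t * _ * (T.Wl t)⁻¹ ∈ A.Sg T.k
    · rw [T.conj_Z' ht]; exact A.Z_mem _ _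
    · rw [T.conj_Zf' ht]; exact A.Zf_mem _ _
  exact hle h

/-- The two rank one subgroups. -/
abbrev D : Subgroup G := A.Sg T.k ⊔ A.Sg T.k'

theorem D_split {d : G} (hd : d ∈ T.D) : ∃ d₁ ∈ A.Sg T.k, ∃ d₂ ∈ A.Sg T.k', d = d₁ * d₂ := by
  rw [D, ← Subgroup.closure_eq (A.Sg T.k), ← Subgroup.closure_eq (A.Sg T.k'), ← Subgroup.closure_union] at hd
  induction hd using Subgroup.closure_induction with
  | mem x hx =>
    rcases hx with hx | hx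
    · exact ⟨x, hx, 1, one_mem _, (mul_one x).symm⟩
    · exact ⟨1, one_mem _, x, hx, (one_mul x).symm⟩
  | one => exact ⟨1, one_mem _, 1, one_mem _, (one_mul 1).symm⟩
  | mul a b _ _ ha hb =>
    obtain ⟨a₁, h1, a₂, h2, rfl⟩ := ha
    obtain ⟨b₁, h3, b₂, h4, rfl⟩ := hb
    refine ⟨a₁ * b₁, mul_mem h1 h3, a₂ * b₂, mul_mem h2 h4, ?_⟩
    rw [mul_assoc, ← mul_assoc a₂, (A.commute_SS T.hk.ne h3 h2).symm.eq]; group
  | inv a _ ha =>
    obtain ⟨a₁, h1, a₂, h2, rfl⟩ := ha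
    exact ⟨a₁⁻¹, inv_mem h1, a₂⁻¹, inv_mem h2, by
      rw [_root_.mul_inv_rev, ((A.commute_SS T.hk.ne h1 h2).inv_left.inv_right).eq]⟩

theorem conj_D {t : F} (ht : t ≠ 0) {d : G} (hd : d ∈ T.D) : T.Wl t * d * (T.Wl t)⁻¹ ∈ T.D := by
  obtain ⟨a, ha, b, hb, rfl⟩ := T.D_split hd
  rw [show T.Wl t * (a * b) * (T.Wl t)⁻¹ = (T.Wl t * a * (T.Wl t)⁻¹) * (T.Wl t * b * (T.Wl t)⁻¹) by group]
  exact mul_mem (Subgroup.mem_sup_right (T.conj_S ht ha)) (Subgroup.mem_sup_left (T.conj_S' ht hb))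

theorem scale_X {h : G} (hh : h ∈ A.Sg T.k) {a : F} (he : ap (A.π h) (ee T.k) = a • ee T.k) (t : F) :
    h * T.X t * h⁻¹ = T.X (a * t) := by
  rw [X, T.scale_U hh he (T.v_smul T.v_f' t), smul_smul, X]

theorem scale_Y {h : G} (hh : h ∈ A.Sg T.k) {a : F} (hf : ap (A.π h) (ff T.k) = a⁻¹ • ff T.k) (s : F) :
    h * T.Y s * h⁻¹ = T.Y (s / a) := by
  refine conj_eq_of_inj (A.injMS _ _ T.k T.hk) (Subgroup.mem_sup_right hh) (T.Y_mem s) (T.Y_mem _) ?_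
  rw [T.π_Y, T.π_Y, hv_conj, hf, T.fix_of_S hh (T.v_smul T.v_e' s), hv_smul_left (by
    rw [B_smul_right, B_fe, if_neg T.hk.ne, mul_zero]), mul_zero, smul_smul, inv_mul_eq_div]

theorem Wl_mul_inv_mem {s t : F} (hs : s ≠ 0) (ht : t ≠ 0) : T.Wl s * (T.Wl t)⁻¹ ∈ T.D := by
  obtain ⟨g, hg, he, hf⟩ := exists_diag T.k (div_ne_zero hs ht)
  obtain ⟨h, hh, rfl⟩ := A.surjS _ g hg
  have e : T.Wl s = h * T.Wl t * h⁻¹ := by
    rw [Wl, Wl, show h * (T.X t * T.Y (-t⁻¹) * T.X t) * h⁻¹ =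
      (h * T.X t * h⁻¹) * (h * T.Y (-t⁻¹) * h⁻¹) * (h * T.X t * h⁻¹) by group, T.scale_X hh he, T.scale_Y hh hf,
      div_mul_cancel₀ s ht, show -t⁻¹ / (s / t) = -s⁻¹ by field_simp]
  rw [e, show h * T.Wl t * h⁻¹ * (T.Wl t)⁻¹ = h * (T.Wl t * h⁻¹ * (T.Wl t)⁻¹) by group]
  exact mul_mem (Subgroup.mem_sup_left hh) (T.conj_D ht (Subgroup.mem_sup_left (inv_mem hh)))

section Next

variable {k'' : Fin n} (h'' : Adj T.k' k'')

include h''

theorem next_gt : (T.k' : ℕ) ≤ k'' := by unfold Adj at h''; omega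

theorem v_e'' : T.V (ee k'') := T.v_ee (T.next_gt h'')

/-- `x_{e_{k+1} + e_{k+2}}`. -/
theorem R_mem (a : F) : A.P T.k' k'' a ∈ T.Gp := A.M_le h'' le_rfl (A.P_mem h'' a)

theorem X_conj_R (q a : F) :
    T.X q * A.P T.k' k'' a * (T.X q)⁻¹ = T.U ((-q * a) • ee k'') * A.P T.k' k'' a := by
  have hne : T.k' ≠ k'' := h''.ne
  have e : ap (A.π (A.P T.k' k'' a)) ((-q) • ff T.k') = (-q) • ff T.k' + (-q * a) • ee k'' := by
    rw [A.π_P h'', hv_apply (by rw [B_smul_right, B_ee, mul_zero])]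
    simp only [B_smul_left, B_smul_right, B_fe, if_neg hne, if_true, mul_zero, mul_one, zero_smul, zero_mul, add_zero,
      smul_smul]
  have h1 := T.U_conj (T.R_mem h'' a) (T.v_smul T.v_f' (-q))
  rw [e] at h1
  have h2 := T.U_add (T.v_smul T.v_f' (-q)) (T.v_smul (T.v_e'' h'') (-q * a))
  rw [B_smul_left, B_smul_right, B_ef, if_neg hne.symm, mul_zero, mul_zero, A.Z_zero, mul_one] at h2
  rw [← h2] at h1
  change A.P T.k' k'' a * T.X (-q) * _ = T.X (-q) * _ at h1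
  rw [T.X_inv]
  calc T.X q * A.P T.k' k'' a * T.X (-q)
      = T.X q * (A.P T.k' k'' a * T.X (-q) * (A.P T.k' k'' a)⁻¹) * A.P T.k' k'' a := by group
    _ = _ := by rw [h1, ← mul_assoc (T.X q), T.X_add, add_neg_cancel, T.X_zero, one_mul]

theorem Y_comm_R (s a : F) : Commute (T.Y s) (A.P T.k' k'' a) := by
  have h1 : Commute T.W1 (A.P T.k' k'' a) := T.commute_S (T.R_mem h'' a) (T.rot_mem _)
  have h2 : Commute (T.P s) (A.P T.k' k'' a) := (A.commute_M_P T.hk h'' (A.P_mem h'' a) s).symm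
  exact (h1.mul_left h2).mul_left h1.inv_left

theorem X_comm_U3 (q c : F) : Commute (T.X q) (T.U (c • ee k'')) := by
  have e1 := T.U_add (T.v_smul T.v_f' q) (T.v_smul (T.v_e'' h'') c)
  have e2 := T.U_add (T.v_smul (T.v_e'' h'') c) (T.v_smul T.v_f' q)
  rw [B_smul_left, B_smul_right, B_ef, if_neg h''.ne.symm, mul_zero, mul_zero] at e1
  rw [B_smul_left, B_smul_right, B_fe, if_neg h''.ne, mul_zero, mul_zero, add_comm] at e2
  exact e1.trans e2.symm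

theorem Y_conj_U3 (p c : F) :
    T.Y p * T.U (c • ee k'') * (T.Y p)⁻¹ = T.U (c • ee k'') * A.P T.k' k'' (-(p * c)) := by
  obtain ⟨t, ht0, ht1⟩ := T.hF
  have hR0 : A.P T.k' k'' 0 = 1 := by
    have := Step.P_add (A := A) h'' 0 0
    rwa [add_zero, mul_eq_left] at this
  have main : ∀ a : F, T.Y (-t⁻¹) * T.U ((-(t - 1) * a) • ee k'') * (T.Y (-t⁻¹))⁻¹ =
      T.U ((-(t - 1) * a) • ee k'') * A.P T.k' k'' (a / t - a) := by
    intro a
    set R : F → G := fun b => A.P T.k' k'' b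
    set d := T.Wl t * (T.Wl 1)⁻¹ with hd
    have hdD : d ∈ T.D := T.Wl_mul_inv_mem ht0 one_ne_zero
    obtain ⟨d₁, h1, d₂, h2, e⟩ := T.D_split hdD
    have hde : ap (A.π d) (ee T.k) = t • ee T.k := by
      rw [hd, map_mul, map_inv, ap_mul, ap_inv_of _ (x := -ee T.k') (by
        rw [ap_neg, (T.Wl_apply one_ne_zero).2.1, neg_smul, neg_neg, one_smul]), ap_neg, (T.Wl_apply ht0).2.1,
        neg_smul, neg_neg]
    have hde' : ap (A.π d) (ee T.k') = t⁻¹ • ee T.k' := by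
      rw [hd, map_mul, map_inv, ap_mul, ap_inv_of _ (x := ee T.k) (by
        rw [(T.Wl_apply one_ne_zero).1, inv_one, one_smul]), (T.Wl_apply ht0).1]
    have h1e : ap (A.π d₁) (ee T.k) = t • ee T.k := by
      rw [← hde, e, map_mul, ap_mul, (T.fix_of_S' h2).1]
    have h2e : ap (A.π d₂) (ee T.k') = t⁻¹ • ee T.k' := by
      apply ap_inj (A.π d₁)
      rw [← ap_mul, ← map_mul, ← e, hde', ap_smul, T.fix_of_S h1 T.v_e']
    have hR : d * R a * d⁻¹ = R (a / t) := by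
      have hc : d₂ * R a * d₂⁻¹ = R (a / t) := by
        refine conj_eq_of_inj (A.injMS _ _ T.k' h'') (Subgroup.mem_sup_right h2)
          (Subgroup.mem_sup_left (A.P_mem h'' a)) (Subgroup.mem_sup_left (A.P_mem h'' _)) ?_
        rw [A.π_P h'', A.π_P h'', hv_conj, h2e, ap_smul, ((A.mapS _ d₂ h2) k'' h''.ne.symm).1,
          hv_smul_left (by rw [B_smul_right, B_ee, mul_zero]), mul_zero, smul_smul, inv_mul_eq_div]
      rw [e, show d₁ * d₂ * R a * (d₁ * d₂)⁻¹ = d₁ * (d₂ * R a * d₂⁻¹) * d₁⁻¹ by group, hc,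
        (T.commute_S (T.R_mem h'' _) h1).eq, mul_inv_cancel_right]
    have hU : ∀ b : F, d * T.U (b • ee k'') * d⁻¹ = T.U ((t * b) • ee k'') := by
      intro b
      rw [e, show d₁ * d₂ * T.U (b • ee k'') * (d₁ * d₂)⁻¹ = d₁ * (d₂ * T.U (b • ee k'') * d₂⁻¹) * d₁⁻¹ by group,
        T.U_conj (A.S_le le_rfl h2) (T.v_smul (T.v_e'' h'') b), ap_smul, ((A.mapS _ d₂ h2) k'' h''.ne.symm).1,
        T.scale_U h1 h1e (T.v_smul (T.v_e'' h'') b), smul_smul]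
    have hd1 : d * T.X 1 = T.X t * T.Y (-t⁻¹) * T.X (t - 1) * T.Y 1 := by
      rw [hd, T.Wl_inv]
      show T.X t * T.Y (-t⁻¹) * T.X t * (T.X (-1) * T.Y (-(-1 : F)⁻¹) * T.X (-1)) * T.X 1 = _
      rw [show -(-1 : F)⁻¹ = 1 by norm_num]
      calc T.X t * T.Y (-t⁻¹) * T.X t * (T.X (-1) * T.Y 1 * T.X (-1)) * T.X 1
          = T.X t * T.Y (-t⁻¹) * (T.X t * T.X (-1)) * T.Y 1 * (T.X (-1) * T.X 1) := by group
        _ = _ := by rw [T.X_add, T.X_add, neg_add_cancel, T.X_zero, mul_one, ← sub_eq_add_neg]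
    have lhs : (d * T.X 1) * R a * (d * T.X 1)⁻¹ =
        T.X t * (T.Y (-t⁻¹) * T.U ((-(t - 1) * a) • ee k'') * (T.Y (-t⁻¹))⁻¹ * R a) * (T.X t)⁻¹ := by
      rw [hd1, show T.X t * T.Y (-t⁻¹) * T.X (t - 1) * T.Y 1 * R a * (T.X t * T.Y (-t⁻¹) * T.X (t - 1) * T.Y 1)⁻¹ =
        T.X t * (T.Y (-t⁻¹) * (T.X (t - 1) * (T.Y 1 * R a * (T.Y 1)⁻¹) * (T.X (t - 1))⁻¹) * (T.Y (-t⁻¹))⁻¹) * (T.X t)⁻¹
          by group, (T.Y_comm_R h'' 1 a).eq, mul_inv_cancel_right, T.X_conj_R h'',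
        show T.Y (-t⁻¹) * (T.U ((-(t - 1) * a) • ee k'') * R a) * (T.Y (-t⁻¹))⁻¹ =
          T.Y (-t⁻¹) * T.U ((-(t - 1) * a) • ee k'') * (T.Y (-t⁻¹))⁻¹ * (T.Y (-t⁻¹) * R a * (T.Y (-t⁻¹))⁻¹) by group,
        (T.Y_comm_R h'' _ a).eq, mul_inv_cancel_right]
    have rhs : (d * T.X 1) * R a * (d * T.X 1)⁻¹ =
        T.X t * (T.U ((-(t - 1) * a) • ee k'') * R (a / t)) * (T.X t)⁻¹ := by
      rw [show d * T.X 1 * R a * (d * T.X 1)⁻¹ = d * (T.X 1 * R a * (T.X 1)⁻¹) * d⁻¹ by group, T.X_conj_R h'',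
        show d * (T.U ((-1 * a) • ee k'') * R a) * d⁻¹ = d * T.U ((-1 * a) • ee k'') * d⁻¹ * (d * R a * d⁻¹) by group,
        hU, hR, show T.X t * (T.U ((-(t - 1) * a) • ee k'') * R (a / t)) * (T.X t)⁻¹ =
          T.X t * T.U ((-(t - 1) * a) • ee k'') * (T.X t)⁻¹ * (T.X t * R (a / t) * (T.X t)⁻¹) by group,
        T.X_conj_R h'', (T.X_comm_U3 h'' _ _).eq, mul_inv_cancel_right, ← mul_assoc (T.U _) (T.U _),
        T.U_add (T.v_smul (T.v_e'' h'') _) (T.v_smul (T.v_e'' h'') _), B_smul_left, B_smul_right, B_self, mul_zero,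
        mul_zero, A.Z_zero, mul_one, ← add_smul]
      congr 3
      field_simp
      ring
    have := mul_left_cancel (mul_right_cancel (lhs.symm.trans rhs))
    rw [show a / t - a = a / t + -a by ring, ← Step.P_add h'', ← Step.P_inv h'', ← mul_assoc]
    exact eq_mul_inv_of_mul_eq this
  by_cases hc : c = 0
  · subst hc; rw [zero_smul, T.U_zero, mul_zero, neg_zero, hR0]; group
  by_cases hp : p = 0
  · subst hp
    have : T.Y 0 = 1 := by rw [Y, T.P_zero]; group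
    rw [this, zero_mul, neg_zero, hR0]; group
  set lam := -t⁻¹ / p with hlam
  have hl : lam ≠ 0 := div_ne_zero (neg_ne_zero.2 (inv_ne_zero ht0)) hp
  obtain ⟨g, hg, he, hf⟩ := exists_diag T.k hl
  obtain ⟨h, hh, rfl⟩ := A.surjS _ g hg
  have ht1' : t - 1 ≠ 0 := sub_ne_zero.2 ht1
  set a := -(c / lam) / (t - 1) with ha
  have hca : -(t - 1) * a = c / lam := by rw [ha]; field_simp
  have := congrArg (fun x => h * x * h⁻¹) (main a)
  rw [hca, show h * (T.Y (-t⁻¹) * T.U ((c / lam) • ee k'') * (T.Y (-t⁻¹))⁻¹) * h⁻¹ =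
      (h * T.Y (-t⁻¹) * h⁻¹) * (h * T.U ((c / lam) • ee k'') * h⁻¹) * (h * T.Y (-t⁻¹) * h⁻¹)⁻¹ by group,
    T.scale_Y hh hf, T.scale_U hh he (T.v_smul (T.v_e'' h'') _), smul_smul, mul_div_cancel₀ c hl,
    show -t⁻¹ / lam = p by rw [hlam]; field_simp] at this
  rw [this, show h * (T.U ((c / lam) • ee k'') * A.P T.k' k'' (a / t - a)) * h⁻¹ =
      (h * T.U ((c / lam) • ee k'') * h⁻¹) * (h * A.P T.k' k'' (a / t - a) * h⁻¹) by group,
    T.scale_U hh he (T.v_smul (T.v_e'' h'') _), smul_smul, mul_div_cancel₀ c hl,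
    (T.commute_S (T.R_mem h'' _) hh).eq, mul_inv_cancel_right]
  congr 2
  rw [ha, hlam]
  field_simp
  ring

theorem Wl_R {t : F} (ht : t ≠ 0) (a : F) :
    T.Wl t * A.P T.k' k'' a * (T.Wl t)⁻¹ = T.U ((-(t * a)) • ee k'') := by
  rw [Wl, show T.X t * T.Y (-t⁻¹) * T.X t * A.P T.k' k'' a * (T.X t * T.Y (-t⁻¹) * T.X t)⁻¹ =
    T.X t * (T.Y (-t⁻¹) * (T.X t * A.P T.k' k'' a * (T.X t)⁻¹) * (T.Y (-t⁻¹))⁻¹) * (T.X t)⁻¹ by group,
    T.X_conj_R h'', show T.Y (-t⁻¹) * (T.U ((-t * a) • ee k'') * A.P T.k' k'' a) * (T.Y (-t⁻¹))⁻¹ =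
      T.Y (-t⁻¹) * T.U ((-t * a) • ee k'') * (T.Y (-t⁻¹))⁻¹ * (T.Y (-t⁻¹) * A.P T.k' k'' a * (T.Y (-t⁻¹))⁻¹) by group,
    T.Y_conj_U3 h'', (T.Y_comm_R h'' _ a).eq, mul_inv_cancel_right, mul_assoc (T.U _) _ (A.P _ _ a), Step.P_add h'',
    show -(-t⁻¹ * (-t * a)) + a = 0 by field_simp; ring,
    show A.P T.k' k'' (0 : F) = 1 by have := Step.P_add (A := A) h'' 0 0; rwa [add_zero, mul_eq_left] at this,
    mul_one, (T.X_comm_U3 h'' _ _).eq, mul_inv_cancel_right, neg_mul]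

theorem Wl_U3 {t : F} (ht : t ≠ 0) (c : F) :
    T.Wl t * T.U (c • ee k'') * (T.Wl t)⁻¹ = A.P T.k' k'' (c / t) := by
  have h := T.Wl_R h'' (neg_ne_zero.2 ht) (c / t)
  rw [← T.Wl_inv, inv_inv, neg_mul, neg_neg, mul_div_cancel₀ c ht] at h
  rw [← h]; group

end Next

end Step

end CfsgLib.SpAmalgam
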